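import Mathlib

/-!
# Coprime automorphism groups of an abelian group of order nine

If such a group of automorphisms has at least three orbits on the non-identity elements and no
proper subgroup contains all `x⁻¹ * γ x`, then it contains the inversion, and either it consists
of the identity and the inversion, or it is the diagonal group of order four.
-/

set_option autoImplicit false
set_option linter.style.haveILetI false

namespace CfsgLib.NineTwoPrimes

variable {R : Type*} [CommGroup R] [Finite R]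

omit [Finite R] in
theorem isCoprimeNine {x : R} (hR : Nat.card R = 9) : x ^ 9 = 1 := hR ▸ pow_card_eq_one'

/-- The only proper non-trivial subgroups of a group of order nine have order three. -/
theorem card_eq_three_of_ne {H : Subgroup R} (hR : Nat.card R = 9) (h1 : H ≠ ⊥) (h2 : H ≠ ⊤) :
    Nat.card H = 3 := by
  have h := Subgroup.card_subgroup_dvd_card H
  rw [hR] at h
  have hle : Nat.card H ≤ 9 := Nat.le_of_dvd (by norm_num) h
  have hne1 : Nat.card H ≠ 1 := fun e => h1 (Subgroup.card_eq_one.1 e)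
  have hne9 : Nat.card H ≠ 9 := fun e => h2 (Subgroup.eq_top_of_card_eq H (by rw [e, hR]))
  interval_cases Nat.card H <;> simp_all

theorem closure_pair_eq_top (hR : Nat.card R = 9) {u w : R} (hu : orderOf u = 3)
    (hw : w ∉ Subgroup.zpowers u) : Subgroup.closure ({u, w} : Set R) = ⊤ := by
  by_contra hne
  have hle : Subgroup.zpowers u ≤ Subgroup.closure ({u, w} : Set R) :=
    Subgroup.zpowers_le.2 (Subgroup.subset_closure (by simp))
  have hbot : Subgroup.closure ({u, w} : Set R) ≠ ⊥ := fun e => by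
    rw [e, le_bot_iff, Subgroup.zpowers_eq_bot] at hle
    rw [hle, orderOf_one] at hu
    norm_num at hu
  have h := Subgroup.eq_of_le_of_card_ge hle
    (by rw [card_eq_three_of_ne hR hbot hne, Nat.card_zpowers, hu])
  exact hw (h ▸ Subgroup.subset_closure (by simp))

theorem mem_zpowers_three {u x : R} (hu : orderOf u = 3) :
    x ∈ Subgroup.zpowers u ↔ x = 1 ∨ x = u ∨ x = u⁻¹ := by
  constructor
  · intro h
    rw [← mem_powers_iff_mem_zpowers] at h
    obtain ⟨i, rfl⟩ := h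
    show u ^ i = 1 ∨ u ^ i = u ∨ u ^ i = u⁻¹
    rw [← pow_mod_orderOf, hu]
    have h3 : u ^ 2 = u⁻¹ := eq_inv_of_mul_eq_one_left (by
      rw [← pow_succ, show 2 + 1 = orderOf u by omega, pow_orderOf_eq_one])
    have : i % 3 < 3 := Nat.mod_lt _ (by norm_num)
    interval_cases (i % 3)
    · simp
    · simp
    · exact Or.inr (Or.inr h3)
  · rintro (h | h | h) <;> rw [h]
    · exact one_mem _
    · exact Subgroup.mem_zpowers u
    · exact inv_mem (Subgroup.mem_zpowers u)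

omit [Finite R] in
theorem ne_inv_of_ne_one (hR : Nat.card R = 9) {y : R} (hy : y ≠ 1) : y ≠ y⁻¹ := fun h => hy <| by
  have h2 : y ^ 2 = 1 := by rw [pow_two]; exact mul_eq_one_iff_eq_inv.2 h
  have h9 : y ^ 9 = 1 := isCoprimeNine hR
  rwa [show 9 = 2 * 4 + 1 from rfl, pow_succ, pow_mul, h2, one_pow, one_mul] at h9

/-- The action of an automorphism is a sign on each of two independent lines. -/
theorem aut_cases (hR : Nat.card R = 9) (Γ : Subgroup (MulAut R)) (hco : ¬ 3 ∣ Nat.card Γ)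
    (horb : ∀ x y : R, ∃ z, z ≠ 1 ∧ ∀ γ ∈ Γ, γ x ≠ z ∧ γ y ≠ z)
    (hfoc : ∀ M : Subgroup R, M ≠ ⊤ → ∃ γ ∈ Γ, ∃ x, x⁻¹ * γ x ∉ M) :
    (∃ ι ∈ Γ, ∀ x : R, ι x = x⁻¹) ∧
    ((∀ γ ∈ Γ, (∀ x : R, γ x = x) ∨ ∀ x : R, γ x = x⁻¹) ∨
      ∃ u z : R, orderOf u = 3 ∧ orderOf z = 3 ∧ z ∉ Subgroup.zpowers u ∧
        (∀ γ ∈ Γ, γ u ∈ Subgroup.zpowers u ∧ γ z ∈ Subgroup.zpowers z) ∧
        (∀ y y' : R, y ∉ Subgroup.zpowers u → y ∉ Subgroup.zpowers z →
          y' ∉ Subgroup.zpowers u → y' ∉ Subgroup.zpowers z → ∃ γ ∈ Γ, γ y = y') ∧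
        ∀ y : R, y ∉ Subgroup.zpowers u → y ∉ Subgroup.zpowers z →
          ∀ γ ∈ Γ, γ y = y → ∀ x : R, γ x = x) := by
  classical
  haveI := Fintype.ofFinite R
  -- an element with a small orbit
  obtain ⟨v, hv1, hvorb⟩ : ∃ v : R, v ≠ 1 ∧ ∃ w, ∀ γ ∈ Γ, γ v = v ∨ γ v = w := by
    by_contra hno
    push Not at hno
    let O : R → Finset R := fun x => Finset.univ.filter fun y => ∃ γ ∈ Γ, γ x = y
    have hO : ∀ {x y : R}, y ∈ O x ↔ ∃ γ ∈ Γ, γ x = y := fun {x y} => by simp [O]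
    have hO3 : ∀ x : R, x ≠ 1 → 3 ≤ (O x).card ∧ O x ⊆ Finset.univ.erase 1 := fun x hx => by
      refine ⟨?_, fun y hy => ?_⟩
      · obtain ⟨γ₁, hγ₁, h₁, -⟩ := hno x hx x
        obtain ⟨γ₂, hγ₂, h₂, h₂'⟩ := hno x hx (γ₁ x)
        have h : ({x, γ₁ x, γ₂ x} : Finset R) ⊆ O x := by
          intro y hy
          simp only [Finset.mem_insert, Finset.mem_singleton] at hy
          rw [hO]
          rcases hy with rfl | rfl | rfl
          · exact ⟨1, one_mem _, rfl⟩
          · exact ⟨γ₁, hγ₁, rfl⟩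
          · exact ⟨γ₂, hγ₂, rfl⟩
        refine le_trans (le_of_eq ?_) (Finset.card_le_card h)
        rw [Finset.card_insert_of_notMem (by simp [Ne.symm h₁, Ne.symm h₂]),
          Finset.card_pair (Ne.symm h₂')]
      · obtain ⟨γ, -, rfl⟩ := hO.1 hy
        exact Finset.mem_erase.2 ⟨fun e => hx (γ.injective (e.trans (map_one γ).symm)),
          Finset.mem_univ _⟩
    have hdisj : ∀ {x y : R}, y ∉ O x → Disjoint (O x) (O y) := fun {x y} h => by
      rw [Finset.disjoint_left]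
      intro c hc hc'
      obtain ⟨γ, hγ, rfl⟩ := hO.1 hc
      obtain ⟨δ, hδ, he⟩ := hO.1 hc'
      exact h (hO.2 ⟨δ⁻¹ * γ, mul_mem (inv_mem hδ) hγ, by
        rw [MulAut.mul_apply, ← he, MulAut.inv_apply, MulEquiv.symm_apply_apply]⟩)
    obtain ⟨x, hx, -⟩ := horb 1 1
    obtain ⟨y, hy, hyx⟩ := horb x x
    obtain ⟨z, hz, hzxy⟩ := horb x y
    have hyO : y ∉ O x := fun h => by
      obtain ⟨γ, hγ, e⟩ := hO.1 h; exact (hyx γ hγ).1 e
    have hzx : z ∉ O x := fun h => by
      obtain ⟨γ, hγ, e⟩ := hO.1 h; exact (hzxy γ hγ).1 e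
    have hzy : z ∉ O y := fun h => by
      obtain ⟨γ, hγ, e⟩ := hO.1 h; exact (hzxy γ hγ).2 e
    have h := Finset.card_le_card (Finset.union_subset (Finset.union_subset (hO3 x hx).2
      (hO3 y hy).2) (hO3 z hz).2)
    rw [Finset.card_union_of_disjoint (Finset.disjoint_union_left.2 ⟨hdisj hzx, hdisj hzy⟩),
      Finset.card_union_of_disjoint (hdisj hyO), Finset.card_erase_of_mem (Finset.mem_univ _),
      Finset.card_univ, ← Nat.card_eq_fintype_card, hR] at h
    have := (hO3 x hx).1; have := (hO3 y hy).1; have := (hO3 z hz).1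
    omega
  obtain ⟨u, hu, w, hw⟩ : ∃ u : R, orderOf u = 3 ∧ ∃ w, ∀ γ ∈ Γ, γ u = u ∨ γ u = w := by
    obtain ⟨w, hw⟩ := hvorb
    have hp : orderOf v ∣ 3 ^ 2 := orderOf_dvd_of_pow_eq_one (isCoprimeNine hR)
    obtain ⟨k, hk, hok⟩ := (Nat.dvd_prime_pow Nat.prime_three).1 hp
    interval_cases k
    · exact absurd (orderOf_eq_one_iff.1 hok) hv1
    · exact ⟨v, by simpa using hok, w, hw⟩
    · refine ⟨v ^ 3, ?_, w ^ 3, fun γ hγ => ?_⟩
      · rw [orderOf_pow' v (by norm_num), hok]; norm_num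
      · rcases hw γ hγ with h | h
        · exact Or.inl (by rw [map_pow, h])
        · exact Or.inr (by rw [map_pow, h])
  -- the conjugates of `u` are `u` and `u⁻¹`
  have hu1 : u ≠ 1 := fun e => by rw [e, orderOf_one] at hu; norm_num at hu
  have hU : ∀ γ ∈ Γ, γ u = u ∨ γ u = u⁻¹ := by
    intro γ hγ
    rcases hw γ hγ with h | h
    · exact Or.inl h
    by_cases hwU : w ∈ Subgroup.zpowers u
    · rcases (mem_zpowers_three hu).1 hwU with h' | h' | h'
      · exact absurd (γ.injective (h.trans (h'.trans (map_one γ).symm))) hu1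
      · exact Or.inl (h.trans h')
      · exact Or.inr (h.trans h')
    exfalso
    have htop := closure_pair_eq_top hR hu hwU
    have hw3 : w ^ 3 = 1 := by
      rw [← h, ← map_pow, ← hu, pow_orderOf_eq_one, map_one]
    let M : Subgroup R := Subgroup.zpowers (u * w⁻¹)
    have hMc : Nat.card M ≤ 3 := by
      rw [Nat.card_zpowers]
      refine Nat.le_of_dvd (by norm_num) (orderOf_dvd_of_pow_eq_one ?_)
      rw [mul_pow, inv_pow, hw3, inv_one, mul_one, ← hu, pow_orderOf_eq_one]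
    have hMne : M ≠ ⊤ := fun e => by rw [e, Subgroup.card_top, hR] at hMc; omega
    obtain ⟨δ, hδ, x, hx⟩ := hfoc M hMne
    let K : Subgroup R := M.comap
      { toFun := fun x => x⁻¹ * δ x
        map_one' := by simp
        map_mul' := fun a b => by
          rw [mul_inv_rev, map_mul, mul_comm b⁻¹ a⁻¹, mul_mul_mul_comm] }
    refine hx (show x ∈ K from ?_)
    have hxt : x ∈ Subgroup.closure ({u, w} : Set R) := htop ▸ Subgroup.mem_top x
    refine (Subgroup.closure_le K).2 ?_ hxt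
    have hδw : δ w = u ∨ δ w = w := by
      rcases hw (δ * γ) (mul_mem hδ hγ) with e | e <;> rw [MulAut.mul_apply, h] at e
      · exact Or.inl e
      · exact Or.inr e
    rintro y (rfl | rfl)
    · show y⁻¹ * δ y ∈ M
      rcases hw δ hδ with e | e
      · rw [e, inv_mul_cancel]; exact one_mem M
      · rw [e, show y⁻¹ * w = (y * w⁻¹)⁻¹ by rw [mul_inv_rev, inv_inv, mul_comm]]
        exact inv_mem (Subgroup.mem_zpowers _)
    · show y⁻¹ * δ y ∈ M
      rcases hδw with e | e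
      · rw [e, mul_comm]; exact Subgroup.mem_zpowers _
      · rw [e, inv_mul_cancel]; exact one_mem M
  -- coordinates
  obtain ⟨x₀, hx₀⟩ : ∃ x₀ : R, x₀ ∉ Subgroup.zpowers u := by
    by_contra hall
    push Not at hall
    have h := Subgroup.eq_top_iff' (Subgroup.zpowers u) |>.2 hall
    have h' := congrArg (fun H : Subgroup R => Nat.card H) h
    simp only [Nat.card_zpowers, hu, Subgroup.card_top, hR] at h'
    omega
  have htop := closure_pair_eq_top hR hu hx₀
  have hext : ∀ {γ δ : MulAut R}, γ u = δ u → γ x₀ = δ x₀ → ∀ x, γ x = δ x := by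
    intro γ δ h1 h2 x
    have : Set.EqOn γ.toMonoidHom δ.toMonoidHom ({u, x₀} : Set R) := by
      rintro y (rfl | rfl) <;> assumption
    exact MonoidHom.eqOn_closure this (htop ▸ Subgroup.mem_top x)
  have hquot : ∀ y : R, y ∈ Subgroup.zpowers u ∨ y * x₀⁻¹ ∈ Subgroup.zpowers u ∨
      y * x₀ ∈ Subgroup.zpowers u := by
    intro y
    set U := Subgroup.zpowers u
    have hidx : Nat.card (R ⧸ U) = 3 := by
      have h := Subgroup.card_eq_card_quotient_mul_card_subgroup U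
      rw [hR, Nat.card_zpowers, hu] at h; omega
    have hne : (QuotientGroup.mk x₀ : R ⧸ U) ≠ 1 := fun e => hx₀ ((QuotientGroup.eq_one_iff x₀).1 e)
    have ho : orderOf (QuotientGroup.mk x₀ : R ⧸ U) = 3 := by
      rcases Nat.prime_three.eq_one_or_self_of_dvd _ (hidx ▸ orderOf_dvd_natCard _) with h | h
      · exact absurd (orderOf_eq_one_iff.1 h) hne
      · exact h
    haveI : Fact (Nat.Prime 3) := ⟨Nat.prime_three⟩
    rcases (mem_zpowers_three ho).1 (mem_zpowers_of_prime_card hidx hne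
      (g' := (QuotientGroup.mk y : R ⧸ U))) with h | h | h
    · exact Or.inl ((QuotientGroup.eq_one_iff y).1 h)
    · exact Or.inr (Or.inl ((QuotientGroup.eq_one_iff _).1 (by
        rw [QuotientGroup.mk_mul, QuotientGroup.mk_inv, h, mul_inv_cancel])))
    · exact Or.inr (Or.inr ((QuotientGroup.eq_one_iff _).1 (by
        rw [QuotientGroup.mk_mul, h, inv_mul_cancel])))
  have hγU : ∀ γ ∈ Γ, ∀ y, γ y ∈ Subgroup.zpowers u → y ∈ Subgroup.zpowers u := by
    intro γ hγ y hy
    rcases (mem_zpowers_three hu).1 hy with h | h | h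
    · rw [← map_one γ] at h
      rw [γ.injective h]; exact one_mem _
    · rcases hU γ hγ with e | e
      · rw [γ.injective (h.trans e.symm)]; exact Subgroup.mem_zpowers u
      · rw [γ.injective (show γ y = γ u⁻¹ by rw [map_inv, e, inv_inv, h])]
        exact inv_mem (Subgroup.mem_zpowers u)
    · rcases hU γ hγ with e | e
      · rw [γ.injective (show γ y = γ u⁻¹ by rw [map_inv, e, h])]
        exact inv_mem (Subgroup.mem_zpowers u)
      · rw [γ.injective (h.trans e.symm)]; exact Subgroup.mem_zpowers u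
  have hsgn : ∀ γ ∈ Γ, γ x₀ * x₀⁻¹ ∈ Subgroup.zpowers u ∨ γ x₀ * x₀ ∈ Subgroup.zpowers u :=
    fun γ hγ => (hquot (γ x₀)).resolve_left fun h => hx₀ (hγU γ hγ x₀ h)
  -- a unipotent element is trivial
  have huni : ∀ γ ∈ Γ, γ u = u → γ x₀ * x₀⁻¹ ∈ Subgroup.zpowers u → ∀ x, γ x = x := by
    intro γ hγ h1 h2
    have hfixU : ∀ c ∈ Subgroup.zpowers u, γ c = c := fun c hc => by
      rcases (mem_zpowers_three hu).1 hc with rfl | rfl | rfl
      · exact map_one γ
      · exact h1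
      · rw [map_inv, h1]
    obtain ⟨c, hc, hcx⟩ : ∃ c ∈ Subgroup.zpowers u, γ x₀ = c * x₀ :=
      ⟨_, h2, by rw [inv_mul_cancel_right]⟩
    have hc3 : c ^ 3 = 1 := by
      have h := Subgroup.orderOf_dvd_natCard _ hc
      rw [Nat.card_zpowers, hu] at h
      exact orderOf_dvd_iff_pow_eq_one.1 h
    have h3 : γ ^ 3 = 1 := MulEquiv.ext fun x => by
      refine hext ?_ ?_ x
      · simp [pow_succ, h1]
      · simp only [pow_succ, pow_zero, MulAut.mul_apply, MulAut.one_apply, hcx, map_mul,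
          hfixU c hc]
        rw [← mul_assoc, ← mul_assoc, ← pow_three', hc3, one_mul]
    have hord : orderOf γ = 1 := by
      refine Nat.eq_one_of_dvd_coprimes (k := orderOf γ)
        ((Nat.prime_three.coprime_iff_not_dvd).2 hco) (orderOf_dvd_of_pow_eq_one h3)
        (Subgroup.orderOf_dvd_natCard Γ hγ)
    intro x
    rw [orderOf_eq_one_iff.1 hord, MulAut.one_apply]
  -- type (-,-) is the inversion
  have hmm : ∀ γ ∈ Γ, γ u = u⁻¹ → γ x₀ * x₀ ∈ Subgroup.zpowers u → ∀ x, γ x = x⁻¹ := by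
    intro γ hγ h1 h2
    have hinvU : ∀ c ∈ Subgroup.zpowers u, γ c = c⁻¹ := fun c hc => by
      rcases (mem_zpowers_three hu).1 hc with rfl | rfl | rfl
      · simp
      · exact h1
      · rw [map_inv, h1]
    obtain ⟨c, hc, hcx⟩ : ∃ c ∈ Subgroup.zpowers u, γ x₀ = c * x₀⁻¹ :=
      ⟨_, h2, by rw [mul_inv_cancel_right]⟩
    have h4 : γ (γ x₀) = c⁻¹ * c⁻¹ * x₀ := by
      rw [hcx, map_mul, map_inv, hcx, hinvU c hc, mul_inv_rev, inv_inv, mul_comm x₀, ← mul_assoc]
    have hsq := huni (γ * γ) (mul_mem hγ hγ) (by rw [MulAut.mul_apply, h1, map_inv, h1, inv_inv])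
      (by rw [MulAut.mul_apply, h4, mul_inv_cancel_right]; exact mul_mem (inv_mem hc) (inv_mem hc))
    have hc1 : c = 1 := by
      have h5 := hsq x₀
      rw [MulAut.mul_apply, h4, mul_eq_right, ← mul_inv_rev, inv_eq_one] at h5
      by_contra hne
      exact ne_inv_of_ne_one hR hne (mul_eq_one_iff_eq_inv.1 h5)
    intro x
    let inv' : MulAut R := MulEquiv.inv R
    exact hext (γ := γ) (δ := inv') h1 (by rw [hcx, hc1, one_mul]; rfl) x
  -- a fixed element for every other type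
  have hfix : ∀ γ ∈ Γ, (∀ x, γ x = x⁻¹) ∨ ∃ f : R, f ≠ 1 ∧ γ f = f := by
    intro γ hγ
    rcases hU γ hγ with h1 | h1
    · exact Or.inr ⟨u, hu1, h1⟩
    rcases hsgn γ hγ with h2 | h2
    · refine Or.inr ?_
      obtain ⟨c, hc, hcx⟩ : ∃ c ∈ Subgroup.zpowers u, γ x₀ = c * x₀ :=
        ⟨_, h2, by rw [inv_mul_cancel_right]⟩
      refine ⟨c⁻¹ * x₀, fun e => hx₀ ?_, ?_⟩
      · rw [inv_mul_eq_one] at e; exact e ▸ hc
      · have hinv : γ c = c⁻¹ := by
          rcases (mem_zpowers_three hu).1 hc with rfl | rfl | rfl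
          · simp
          · exact h1
          · rw [map_inv, h1]
        have hc3 : c ^ 3 = 1 := by
          have h := Subgroup.orderOf_dvd_natCard _ hc
          rw [Nat.card_zpowers, hu] at h
          exact orderOf_dvd_iff_pow_eq_one.1 h
        rw [map_mul, map_inv, hinv, inv_inv, hcx, ← mul_assoc]
        congr 1
        exact eq_inv_of_mul_eq_one_left (by rw [← pow_three', hc3])
    · exact Or.inl (hmm γ hγ h1 h2)
  -- the inversion
  obtain ⟨ι, hι, hιinv⟩ : ∃ ι ∈ Γ, ∀ x : R, ι x = x⁻¹ := by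
    by_contra hno
    push Not at hno
    have hfix' : ∀ γ ∈ Γ, ∃ f : R, f ≠ 1 ∧ γ f = f := fun γ hγ =>
      (hfix γ hγ).resolve_left fun h => by
        obtain ⟨x, hx⟩ := hno γ hγ
        exact hx (h x)
    -- the group has order at most two
    have hsame : ∀ γ ∈ Γ, ∀ δ ∈ Γ, ¬ (∀ x, γ x = x) → ¬ (∀ x, δ x = x) → ∀ x, γ x = δ x := by
      intro γ hγ δ hδ hγ1 hδ1
      have hty : ∀ ε ∈ Γ, ¬ (∀ x, ε x = x) →
          (ε u = u ∧ ε x₀ * x₀ ∈ Subgroup.zpowers u) ∨
            (ε u = u⁻¹ ∧ ε x₀ * x₀⁻¹ ∈ Subgroup.zpowers u) := by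
        intro ε hε hε1
        rcases hU ε hε with h1 | h1 <;> rcases hsgn ε hε with h2 | h2
        · exact absurd (huni ε hε h1 h2) hε1
        · exact Or.inl ⟨h1, h2⟩
        · exact Or.inr ⟨h1, h2⟩
        · obtain ⟨x, hx⟩ := hno ε hε
          exact absurd (hmm ε hε h1 h2 x) hx
      have hkeepU : ∀ ε ∈ Γ, ∀ c ∈ Subgroup.zpowers u, ε c ∈ Subgroup.zpowers u := by
        intro ε hε c hc
        rcases (mem_zpowers_three hu).1 hc with e | e | e <;> rw [e]
        · simp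
        · rcases hU ε hε with h | h <;> rw [h]
          · exact Subgroup.mem_zpowers u
          · exact inv_mem (Subgroup.mem_zpowers u)
        · rw [map_inv]
          rcases hU ε hε with h | h <;> rw [h]
          · exact inv_mem (Subgroup.mem_zpowers u)
          · rw [inv_inv]; exact Subgroup.mem_zpowers u
      have hprod : ∀ ε ∈ Γ, ∀ η ∈ Γ, ∀ c : R, η x₀ * c ∈ Subgroup.zpowers u →
          (ε * η) x₀ * ε c ∈ Subgroup.zpowers u := by
        intro ε hε η hη c h
        rw [MulAut.mul_apply, ← map_mul]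
        exact hkeepU ε hε _ h
      have hne : ¬ (γ u = u ∧ δ u = u⁻¹) := by
        rintro ⟨a, b⟩
        obtain ⟨x, hx⟩ := hno (δ * γ) (mul_mem hδ hγ)
        refine hx (hmm _ (mul_mem hδ hγ) (by rw [MulAut.mul_apply, a, b]) ?_ x)
        rcases hty γ hγ hγ1 with ⟨-, h⟩ | ⟨h, -⟩
        swap
        · exact absurd (a.symm.trans h) (ne_inv_of_ne_one hR hu1)
        rcases hty δ hδ hδ1 with ⟨h', -⟩ | ⟨-, h'⟩
        · exact absurd (h'.symm.trans b) (ne_inv_of_ne_one hR hu1)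
        have h3 := hprod δ hδ γ hγ x₀ h
        have h4 := mul_mem h3 (inv_mem h')
        rwa [mul_inv_rev, inv_inv, mul_assoc, mul_left_comm (δ x₀), mul_inv_cancel, mul_one] at h4
      have hne' : ¬ (δ u = u ∧ γ u = u⁻¹) := by
        rintro ⟨a, b⟩
        obtain ⟨x, hx⟩ := hno (γ * δ) (mul_mem hγ hδ)
        refine hx (hmm _ (mul_mem hγ hδ) (by rw [MulAut.mul_apply, a, b]) ?_ x)
        rcases hty δ hδ hδ1 with ⟨-, h⟩ | ⟨h, -⟩
        swap
        · exact absurd (a.symm.trans h) (ne_inv_of_ne_one hR hu1)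
        rcases hty γ hγ hγ1 with ⟨h', -⟩ | ⟨-, h'⟩
        · exact absurd (h'.symm.trans b) (ne_inv_of_ne_one hR hu1)
        have h3 := hprod γ hγ δ hδ x₀ h
        have h4 := mul_mem h3 (inv_mem h')
        rwa [mul_inv_rev, inv_inv, mul_assoc, mul_left_comm (γ x₀), mul_inv_cancel, mul_one] at h4
      have hkey : ∀ x, (γ⁻¹ * δ) x = x := by
        rcases hty γ hγ hγ1 with ⟨a, a'⟩ | ⟨a, a'⟩ <;> rcases hty δ hδ hδ1 with ⟨b, b'⟩ | ⟨b, b'⟩
        · refine huni _ (mul_mem (inv_mem hγ) hδ) ?_ ?_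
          · rw [MulAut.mul_apply, b, MulAut.inv_apply, MulEquiv.symm_apply_eq, a]
          · have h4 := hprod γ⁻¹ (inv_mem hγ) δ hδ _ b'
            have h5 : γ⁻¹ x₀ * x₀ ∈ Subgroup.zpowers u := by
              have := hkeepU γ⁻¹ (inv_mem hγ) _ a'
              rwa [map_mul, MulAut.inv_apply_self, mul_comm] at this
            have h6 := mul_mem h4 (inv_mem h5)
            rwa [mul_inv_rev, mul_assoc, mul_left_comm (γ⁻¹ x₀), mul_inv_cancel, mul_one] at h6
        · exact absurd ⟨a, b⟩ hne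
        · exact absurd ⟨b, a⟩ hne'
        · refine huni _ (mul_mem (inv_mem hγ) hδ) ?_ ?_
          · rw [MulAut.mul_apply, b, MulAut.inv_apply, MulEquiv.symm_apply_eq, a]
          · have h4 := hprod γ⁻¹ (inv_mem hγ) δ hδ _ b'
            have h5 : γ⁻¹ x₀ * x₀⁻¹ ∈ Subgroup.zpowers u := by
              have := hkeepU γ⁻¹ (inv_mem hγ) _ (inv_mem a')
              rwa [map_inv, map_mul, map_inv, MulAut.inv_apply_self, mul_inv_rev, inv_inv] at this
            rw [map_inv] at h4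
            have h6 := mul_mem h4 h5
            rwa [mul_assoc, inv_mul_cancel_left] at h6
      intro x
      conv_rhs => rw [show δ = γ * (γ⁻¹ * δ) by rw [mul_inv_cancel_left]]
      rw [MulAut.mul_apply, hkey x]
    by_cases hall : ∀ γ ∈ Γ, ∀ x : R, γ x = x
    · obtain ⟨γ, hγ, x, hx⟩ := hfoc ⊥ (fun e => by
        have := congrArg (fun H : Subgroup R => Nat.card H) e
        simp only [Subgroup.card_bot, Subgroup.card_top, hR] at this
        omega)
      exact hx (by rw [hall γ hγ x, inv_mul_cancel]; exact one_mem _)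
    push Not at hall
    obtain ⟨γ₀, hγ₀, x₁, hx₁⟩ := hall
    let d : R →* R :=
      { toFun := fun x => x⁻¹ * γ₀ x
        map_one' := by simp
        map_mul' := fun a b => by
          rw [mul_inv_rev, map_mul, mul_comm b⁻¹ a⁻¹, mul_mul_mul_comm] }
    obtain ⟨f, hf1, hf⟩ := hfix' γ₀ hγ₀
    have hd : d.range ≠ ⊤ := fun e => hf1 (by
      have hsur : Function.Surjective d := MonoidHom.range_eq_top.1 e
      exact Finite.injective_iff_surjective.2 hsur
        (show d f = d 1 by simp [d, hf]))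
    obtain ⟨γ, hγ, x, hx⟩ := hfoc _ hd
    refine hx ?_
    by_cases hγ1 : ∀ x, γ x = x
    · rw [hγ1 x, inv_mul_cancel]; exact one_mem _
    · exact ⟨x, by simp [d, hsame γ₀ hγ₀ γ hγ (fun h => hx₁ (h x₁)) hγ1 x]⟩
  refine ⟨⟨ι, hι, hιinv⟩, ?_⟩
  by_cases hI : ∀ γ ∈ Γ, (∀ x : R, γ x = x) ∨ ∀ x : R, γ x = x⁻¹
  · exact Or.inl hI
  refine Or.inr ?_
  push Not at hI
  obtain ⟨γ, hγ, ⟨a₁, ha₁⟩, a₂, ha₂⟩ := hI
  -- an automorphism fixing `u` and inverting the quotient
  obtain ⟨σ, hσ, hσu, hσx⟩ : ∃ σ ∈ Γ, σ u = u ∧ σ x₀ * x₀ ∈ Subgroup.zpowers u := by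
    rcases hU γ hγ with h1 | h1
    · exact ⟨γ, hγ, h1, (hsgn γ hγ).resolve_left fun h => ha₁ (huni γ hγ h1 h a₁)⟩
    · refine ⟨ι * γ, mul_mem hι hγ, by rw [MulAut.mul_apply, h1, hιinv, inv_inv], ?_⟩
      have h2 := (hsgn γ hγ).resolve_right fun h => ha₂ (hmm γ hγ h1 h a₂)
      rw [MulAut.mul_apply, hιinv]
      have h3 := inv_mem h2
      rwa [mul_inv_rev, inv_inv, mul_comm] at h3
  obtain ⟨c, hc, hcx⟩ : ∃ c ∈ Subgroup.zpowers u, σ x₀ = c * x₀⁻¹ :=
    ⟨_, hσx, by rw [mul_inv_cancel_right]⟩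
  have hσc : ∀ d ∈ Subgroup.zpowers u, σ d = d := fun d hd => by
    rcases (mem_zpowers_three hu).1 hd with rfl | rfl | rfl
    · exact map_one σ
    · exact hσu
    · rw [map_inv, hσu]
  set z := x₀⁻¹ * σ x₀ with hz
  have hσz : σ z = z⁻¹ := by
    refine eq_inv_of_mul_eq_one_left ?_
    have hc3 : c * (c * c) = 1 := by
      have h := Subgroup.orderOf_dvd_natCard _ hc
      rw [Nat.card_zpowers, hu] at h
      rw [← mul_assoc, ← pow_three', orderOf_dvd_iff_pow_eq_one.1 h]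
    have e1 : σ z = c⁻¹ * x₀ * (c * (c⁻¹ * x₀)) := by
      rw [hz, map_mul, hcx, map_inv, map_mul, map_inv, hσc c hc, hcx, mul_inv_rev, inv_inv,
        mul_comm x₀ c⁻¹]
    rw [e1, hz, hcx]
    calc c⁻¹ * x₀ * (c * (c⁻¹ * x₀)) * (x₀⁻¹ * (c * x₀⁻¹))
        = (c⁻¹ * c) * (x₀ * x₀⁻¹) * (c * c⁻¹) * (x₀ * x₀⁻¹) := by ac_rfl
      _ = 1 := by simp
  have hzU : z ∉ Subgroup.zpowers u := fun h => by
    have h' : x₀⁻¹ * x₀⁻¹ ∈ Subgroup.zpowers u := by
      have := mul_mem h (inv_mem hc)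
      rwa [hz, hcx, mul_assoc, mul_comm c, mul_assoc x₀⁻¹ c, mul_inv_cancel, mul_one] at this
    refine hx₀ ?_
    have h9 : x₀ ^ 9 = 1 := isCoprimeNine hR
    have := pow_mem h' 4
    rw [← mul_inv_rev, ← pow_two, inv_pow, ← pow_mul] at this
    have e : (x₀ ^ (2 * 4))⁻¹ = x₀ := inv_eq_of_mul_eq_one_right (by rw [← pow_succ, h9])
    rwa [e] at this
  have hz1 : z ≠ 1 := fun e => hzU (e ▸ one_mem _)
  have hz3 : orderOf z = 3 := by
    have hz3' : z ^ 3 ∈ Subgroup.zpowers u := by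
      have hidx : (Subgroup.zpowers u).index = 3 := by
        have h := (Subgroup.zpowers u).card_mul_index
        rw [Nat.card_zpowers, hu, hR] at h; omega
      exact hidx ▸ Subgroup.pow_index_mem (Subgroup.zpowers u) z
    haveI : Fact (Nat.Prime 3) := ⟨Nat.prime_three⟩
    refine orderOf_eq_prime ?_ hz1
    by_contra hne
    refine ne_inv_of_ne_one hR hne ?_
    conv_lhs => rw [← hσc _ hz3']
    rw [map_pow, hσz, inv_pow]
  have hdec : ∀ y : R, ∃ a b : R, a ∈ Subgroup.zpowers u ∧ b ∈ Subgroup.zpowers z ∧ a * b = y := by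
    intro y
    have h : y ∈ Subgroup.closure ({u, z} : Set R) :=
      closure_pair_eq_top hR hu hzU ▸ Subgroup.mem_top y
    obtain ⟨m, n, rfl⟩ := Subgroup.mem_closure_pair.1 h
    exact ⟨u ^ m, z ^ n, ⟨m, rfl⟩, ⟨n, rfl⟩, rfl⟩
  have hzz : ∀ d ∈ Subgroup.zpowers z, σ d = d⁻¹ := fun d hd => by
    rcases (mem_zpowers_three hz3).1 hd with rfl | rfl | rfl
    · simp
    · exact hσz
    · rw [map_inv, hσz]
  have huniq : ∀ a ∈ Subgroup.zpowers u, a ∈ Subgroup.zpowers z → a = 1 := fun a ha ha' => by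
    by_contra hne
    exact ne_inv_of_ne_one hR hne ((hσc a ha).symm.trans (hzz a ha'))
  have hinv : ∀ δ ∈ Γ, ∀ x, (ι * δ) x = (δ x)⁻¹ := fun δ _ x => by
    rw [MulAut.mul_apply, hιinv]
  have hfour : ∀ δ ∈ Γ, (∀ x, δ x = x) ∨ (∀ x, δ x = x⁻¹) ∨ (∀ x, δ x = σ x) ∨
      ∀ x, δ x = (σ x)⁻¹ := by
    intro δ hδ
    have hσσ : ∀ x, σ (σ x) = x := by
      intro x
      obtain ⟨a, b, ha, hb, rfl⟩ := hdec x
      rw [map_mul, hσc a ha, hzz b hb, map_mul, hσc a ha, map_inv, hzz b hb, inv_inv]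
    rcases hU δ hδ with h1 | h1 <;> rcases hsgn δ hδ with h2 | h2
    · exact Or.inl (huni δ hδ h1 h2)
    · refine Or.inr (Or.inr (Or.inl fun x => ?_))
      have h3 := huni (σ * δ) (mul_mem hσ hδ) (by rw [MulAut.mul_apply, h1, hσu]) (by
        have h4 : σ (δ x₀ * x₀) ∈ Subgroup.zpowers u := by rw [hσc _ h2]; exact h2
        rw [map_mul] at h4
        have h5 := mul_mem h4 (inv_mem hσx)
        rwa [mul_inv_rev, mul_assoc, mul_left_comm (σ x₀), mul_inv_cancel, mul_one] at h5) x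
      rw [MulAut.mul_apply] at h3
      conv_rhs => rw [← h3]
      rw [hσσ]
    · refine Or.inr (Or.inr (Or.inr fun x => ?_))
      have h3 := huni (σ * (ι * δ)) (mul_mem hσ (mul_mem hι hδ))
        (by rw [MulAut.mul_apply, hinv δ hδ, h1, inv_inv, hσu]) (by
        have h4 := inv_mem h2
        rw [mul_inv_rev, inv_inv, mul_comm, ← hinv δ hδ] at h4
        have h4' : σ ((ι * δ) x₀ * x₀) ∈ Subgroup.zpowers u := by rw [hσc _ h4]; exact h4
        rw [map_mul] at h4'
        have h5 := mul_mem h4' (inv_mem hσx)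
        rwa [mul_inv_rev, mul_assoc, mul_left_comm (σ x₀), mul_inv_cancel, mul_one] at h5) x
      rw [MulAut.mul_apply, hinv δ hδ] at h3
      conv_rhs => rw [← h3]
      rw [hσσ, inv_inv]
    · exact Or.inr (Or.inl (hmm δ hδ h1 h2))
  refine ⟨u, z, hu, hz3, hzU, fun δ hδ => ?_, ?_, ?_⟩
  · have hu' := Subgroup.mem_zpowers u
    have hz' := Subgroup.mem_zpowers z
    rcases hfour δ hδ with h | h | h | h <;> rw [h u, h z]
    · exact ⟨hu', hz'⟩
    · exact ⟨inv_mem hu', inv_mem hz'⟩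
    · rw [hσu, hσz]; exact ⟨hu', inv_mem hz'⟩
    · rw [hσu, hσz, inv_inv]; exact ⟨inv_mem hu', hz'⟩
  · -- all four elements outside the two lines
    have key : ∀ y, y ∉ Subgroup.zpowers u → y ∉ Subgroup.zpowers z →
        ∃ δ ∈ Γ, δ (u * z) = y := by
      intro y hyu hyz
      obtain ⟨a, b, ha, hb, rfl⟩ := hdec y
      rcases (mem_zpowers_three hu).1 ha with ea | ea | ea
      · exact absurd (by rw [ea, one_mul]; exact hb) hyz
      all_goals
        rcases (mem_zpowers_three hz3).1 hb with eb | eb | eb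
      · exact absurd (by rw [eb, mul_one]; exact ha) hyu
      · exact ⟨1, one_mem _, by rw [ea, eb, MulAut.one_apply]⟩
      · exact ⟨σ, hσ, by rw [map_mul, hσu, hσz, ea, eb]⟩
      · exact absurd (by rw [eb, mul_one]; exact ha) hyu
      · exact ⟨ι * σ, mul_mem hι hσ, by
          rw [hinv σ hσ, map_mul, hσu, hσz, ea, eb, mul_inv_rev, inv_inv, mul_comm]⟩
      · exact ⟨ι, hι, by rw [hιinv, ea, eb, mul_inv_rev, mul_comm]⟩
    intro y y' h1 h2 h3 h4
    obtain ⟨δ, hδ, e⟩ := key y h1 h2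
    obtain ⟨δ', hδ', e'⟩ := key y' h3 h4
    exact ⟨δ' * δ⁻¹, mul_mem hδ' (inv_mem hδ), by
      rw [MulAut.mul_apply, ← e, MulAut.inv_apply_self, e']⟩
  · intro y hyu hyz δ hδ hfix'
    rcases hfour δ hδ with h | h | h | h
    · exact h
    · exact absurd (hfix'.symm.trans (h y)) (ne_inv_of_ne_one hR fun e => hyu (e ▸ one_mem _))
    · exfalso
      obtain ⟨a, b, ha, hb, rfl⟩ := hdec y
      have e := hfix'
      rw [h, map_mul, hσc a ha, hzz b hb, mul_right_inj] at e
      by_cases hb1 : b = 1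
      · exact hyu (by rw [hb1, mul_one]; exact ha)
      · exact ne_inv_of_ne_one hR hb1 e.symm
    · exfalso
      obtain ⟨a, b, ha, hb, rfl⟩ := hdec y
      have e := hfix'
      rw [h, map_mul, hσc a ha, hzz b hb, mul_inv_rev, inv_inv, mul_comm, mul_left_inj] at e
      by_cases ha1 : a = 1
      · exact hyz (by rw [ha1, one_mul]; exact hb)
      · exact ne_inv_of_ne_one hR ha1 e.symm

end CfsgLib.NineTwoPrimes
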