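import Cfsg.Agent.Lib.Blocks.ClassCount

/-!
# Lower bounds for the number of pairs of involutions with a given product
-/

set_option autoImplicit false
set_option linter.unusedSectionVars false

noncomputable section

namespace CfsgLib.NineTwoPrimes

open Cfsg CfsgLib.ClassCount
open scoped Classical

universe u

variable {G : Type u} [Group G] [Fintype G]

theorem mul_self_of_mem_cls {t a : G} (ht : t * t = 1) (ha : a ∈ cls t) : a * a = 1 := by
  obtain ⟨g, rfl⟩ := isConj_iff.1 (mem_cls.1 ha)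
  rw [show g * t * g⁻¹ * (g * t * g⁻¹) = g * (t * t) * g⁻¹ by group, ht]
  group

theorem mem_pairs {t z : G} {x : G × G} :
    x ∈ pairs t t {z} ↔ x.1 ∈ cls t ∧ x.2 ∈ cls t ∧ x.1 * x.2 = z := by
  simp [pairs, and_assoc]

/-- In a pair of conjugate involutions the first one inverts the product. -/
theorem inverts_product {t a b : G} (ht : t * t = 1) (ha : a ∈ cls t) (hb : b ∈ cls t) :
    a * (a * b) * a⁻¹ = (a * b)⁻¹ := by
  rw [mul_inv_rev, inv_eq_of_mul_eq_one_right (mul_self_of_mem_cls ht hb),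
    inv_eq_of_mul_eq_one_right (mul_self_of_mem_cls ht ha), ← mul_assoc a a b,
    mul_self_of_mem_cls ht ha, one_mul]

/-- Conjugating by powers of an inverted element of odd order gives as many pairs. -/
theorem orderOf_le_card_pairs {t z y a : G} (ht : t * t = 1) (ha : a ∈ cls t)
    (hb : a * z ∈ cls t) (hinv : a * y * a⁻¹ = y⁻¹) (hc : Commute y z)
    (hodd : Odd (orderOf y)) : orderOf y ≤ (pairs t t {z}).card := by
  have hs : SemiconjBy a y y⁻¹ := mul_inv_eq_iff_eq_mul.1 hinv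
  have key : ∀ i : ℕ, y ^ i * a * (y ^ i)⁻¹ = y ^ (2 * i) * a := fun i => by
    have h : a * (y⁻¹) ^ i = (y⁻¹)⁻¹ ^ i * a := hs.inv_right.pow_right i
    rw [inv_inv, inv_pow] at h
    rw [mul_assoc, h, ← mul_assoc, ← pow_add, two_mul]
  let F : Fin (orderOf y) → G × G := fun i =>
    (y ^ (i : ℕ) * a * (y ^ (i : ℕ))⁻¹, y ^ (i : ℕ) * (a * z) * (y ^ (i : ℕ))⁻¹)
  have hmem : ∀ i, F i ∈ pairs t t {z} := by
    intro i
    rw [mem_pairs]
    refine ⟨mem_cls.2 ((mem_cls.1 ha).trans (isConj_iff.2 ⟨_, rfl⟩)),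
      mem_cls.2 ((mem_cls.1 hb).trans (isConj_iff.2 ⟨_, rfl⟩)), ?_⟩
    show y ^ (i : ℕ) * a * (y ^ (i : ℕ))⁻¹ * (y ^ (i : ℕ) * (a * z) * (y ^ (i : ℕ))⁻¹) = z
    rw [show y ^ (i : ℕ) * a * (y ^ (i : ℕ))⁻¹ * (y ^ (i : ℕ) * (a * z) * (y ^ (i : ℕ))⁻¹) =
      y ^ (i : ℕ) * (a * a) * z * (y ^ (i : ℕ))⁻¹ by group, mul_self_of_mem_cls ht ha, mul_one,
      (hc.pow_left (i : ℕ)).eq, mul_inv_cancel_right]
  have hinj : Function.Injective F := by
    intro i j h
    have h1 := congrArg Prod.fst h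
    simp only [F, key, mul_left_inj, pow_eq_pow_iff_modEq] at h1
    have h2 : (i : ℕ) ≡ j [MOD orderOf y] :=
      Nat.ModEq.cancel_left_of_coprime (Nat.coprime_two_right.2 hodd) h1
    exact Fin.ext (h2.eq_of_lt_of_lt i.isLt j.isLt)
  have h := Finset.card_le_card_of_injOn (s := (Finset.univ : Finset (Fin (orderOf y))))
    (t := pairs t t {z}) F (fun i _ => hmem i) (fun i _ j _ e => hinj e)
  simpa using h

/-- Pairs with conjugate products are equinumerous. -/
theorem card_pairs_conj {t z w : G} (h : IsConj z w) :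
    (pairs t t {w}).card = (pairs t t {z}).card := by
  obtain ⟨g, rfl⟩ := isConj_iff.1 h
  refine (Finset.card_equiv ((MulAut.conj g).toEquiv.prodCongr (MulAut.conj g).toEquiv) ?_).symm
  intro x
  show x ∈ _ ↔ (MulAut.conj g x.1, MulAut.conj g x.2) ∈ _
  simp only [mem_pairs, mem_cls]
  have hc : ∀ y : G, IsConj t (MulAut.conj g y) ↔ IsConj t y := fun y =>
    ⟨fun h => h.trans (isConj_iff.2 ⟨g, rfl⟩).symm, fun h => h.trans (isConj_iff.2 ⟨g, rfl⟩)⟩
  rw [hc, hc, ← map_mul, ← MulAut.conj_apply, (MulAut.conj g).injective.eq_iff]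

/-- Summing over the products. -/
theorem card_pairs_eq_sum (t : G) (T : Finset G) :
    (pairs t t T).card = ∑ z ∈ T, (pairs t t {z}).card := by
  refine (Finset.card_eq_sum_card_fiberwise (f := fun x : G × G => x.1 * x.2)
    (s := pairs t t T) (t := T) (fun x hx => (Finset.mem_filter.1 hx).2)).trans
    (Finset.sum_congr rfl fun z hz => congrArg Finset.card ?_)
  ext x
  simp only [Finset.mem_filter, pairs, Finset.mem_product, Finset.mem_singleton]
  constructor
  · rintro ⟨⟨h12, -⟩, h3⟩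
    exact ⟨h12, h3⟩
  · rintro ⟨h12, h3⟩
    exact ⟨⟨h12, h3 ▸ hz⟩, h3⟩

end CfsgLib.NineTwoPrimes
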