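import Cfsg.Agent.Lib.NineTwoPrimes.QStruct
import Cfsg.Agent.Lib.NineTwoPrimes.Pairs
import Cfsg.Agent.Lib.Blocks.DefectZeroVanish

/-!
# The bound on the Sylow 2-subgroup
-/

set_option autoImplicit false
set_option linter.style.haveILetI false
set_option linter.unusedSectionVars false

noncomputable section

namespace CfsgLib.NineTwoPrimes

open Cfsg CfsgLib.Characters CfsgLib.ClassCount
open scoped ComplexConjugate Classical

universe u

variable {G : Type u} [Group G] [Fintype G] [IsSimpleGroup G]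

/-- An involution in the centre of a Sylow 2-subgroup. -/
theorem exists_central_involution {a M : ℕ} (hcard : Nat.card G = 2 ^ a * M) (hM : ¬ 2 ∣ M)
    (ha : 1 ≤ a) : ∃ t : G, orderOf t = 2 ∧
      2 ^ a ∣ Nat.card (Subgroup.centralizer ({t} : Set G)) ∧
      ¬ 2 ∣ (Subgroup.centralizer ({t} : Set G)).index := by
  haveI : Fact (Nat.Prime 2) := ⟨Nat.prime_two⟩
  obtain ⟨S⟩ : Nonempty (Sylow 2 G) := inferInstance
  have hS : Nat.card (S : Subgroup G) = 2 ^ a := by
    rw [Sylow.card_eq_multiplicity, hcard, Nat.factorization_mul (by positivity)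
      (show M ≠ 0 from fun e => hM (by rw [e]; exact dvd_zero 2)), Finsupp.add_apply,
      Nat.factorization_eq_zero_of_not_dvd hM, Nat.Prime.factorization_pow Nat.prime_two,
      Finsupp.single_eq_same, add_zero]
  haveI : Nontrivial (S : Subgroup G) := Finite.one_lt_card_iff_nontrivial.1 (by
    rw [hS]; exact Nat.one_lt_two_pow (by omega))
  haveI := S.2.center_nontrivial
  have hZ : IsPGroup 2 (Subgroup.center (S : Subgroup G)) := S.2.to_subgroup _
  obtain ⟨k, hk, hkc⟩ := hZ.nontrivial_iff_card.1 inferInstance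
  obtain ⟨s, hs⟩ := exists_prime_orderOf_dvd_card' 2
    (show 2 ∣ Nat.card (Subgroup.center (S : Subgroup G)) from hkc ▸ dvd_pow_self 2 (by omega))
  have hle : (S : Subgroup G) ≤ Subgroup.centralizer ({((s : (S : Subgroup G)) : G)} : Set G) := by
    intro x hx
    rw [Subgroup.mem_centralizer_singleton_iff]
    exact congrArg Subtype.val (Subgroup.mem_center_iff.1 s.2 ⟨x, hx⟩)
  refine ⟨((s : (S : Subgroup G)) : G), ?_, hS ▸ Subgroup.card_dvd_of_le hle, fun h => ?_⟩
  · rw [Subgroup.orderOf_coe, Subgroup.orderOf_coe, hs]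
  · exact S.not_dvd_index (h.trans (Subgroup.index_dvd_of_le hle))

namespace QBlock

variable {q e : ℕ} (B : QBlock q e G)

/-- The Galois conjugates of a character in `Y` of distinguished degree agree on the regular
elements. -/
theorem exists_int_of_mem_Y [hq : Fact q.Prime] (P : Sylow q G) (hP : Nat.card P = q)
    {θ : IrrCharacter G} (hθ : θ ∈ B.Y) {d : ℕ} (hd : (θ : G → ℂ) 1 = d) (hqd : ¬ q ∣ d)
    (hX : ∀ χ ∈ B.X, (χ : G → ℂ) 1 ≠ d) {g : G} (hg : ¬ q ∣ orderOf g) :
    ∃ z : ℤ, (θ : G → ℂ) g = z := by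
  refine exists_int_of_fixed (irr_isCharacter θ) g fun σ => ?_
  let θ' : IrrCharacter G := ⟨_, CfsgLib.CharGalois.isIrrCharacter_map σ θ.2⟩
  have hd' : (θ' : G → ℂ) 1 = d := show σ ((θ : G → ℂ) 1) = d by rw [hd, map_natCast]
  by_cases hθ' : θ' ∈ B.Y
  · have h1 := B.rel θ hθ g hg
    have h2 := B.rel θ' hθ' g hg
    have hε : (B.ε : ℂ) ≠ 0 := by rcases B.ε_sign with e | e <;> rw [e] <;> norm_num
    exact mul_left_cancel₀ hε (h2.trans h1.symm)
  · exfalso
    have hθX : θ' ∉ B.X := fun h => hX θ' h hd'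
    refine hqd ?_
    have := CfsgLib.PermPrime.dvd_degree P hP θ' fun x hx => B.vanish θ' hθX hθ' x hx
    rwa [show charDegree (θ' : G → ℂ) = d by simp [charDegree, hd']] at this

end QBlock

variable (hG : ¬ IsMulCommutative G) (D : Ctx G)

/-- A character of degree nine with integer values on the regular elements bounds the
centralizer of a three-element. -/
theorem centralizer_le_72 {a q : ℕ} [hq : Fact q.Prime] (hq5 : 5 ≤ q)
    (hcard : Nat.card G = 9 * 2 ^ a * q) (hG : ¬ IsMulCommutative G)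
    (Q : Sylow q G) (hQ : Nat.card Q = q)
    (hC : ∀ u ∈ (Q : Subgroup G), u ≠ 1 → Subgroup.centralizer ({u} : Set G) = (Q : Subgroup G))
    {E : IrrCharacter G} (hE1 : (E : G → ℂ) 1 = 9)
    (hEint : ∀ g : G, ¬ q ∣ orderOf g → ∃ z : ℤ, (E : G → ℂ) g = z)
    {y : G} (hy : y ^ 9 = 1) (hy1 : y ≠ 1) :
    Nat.card (Subgroup.centralizer ({y} : Set G)) ≤ 72 := by
  haveI : Fact (Nat.Prime 2) := ⟨Nat.prime_two⟩
  haveI : Fact (Nat.Prime 3) := ⟨Nat.prime_three⟩
  set C := Subgroup.centralizer ({y} : Set G) with hCdef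
  have hq3 : ¬ 3 ∣ q := fun h => by
    have := (Nat.prime_dvd_prime_iff_eq Nat.prime_three hq.out).1 h; omega
  -- the centralizer is a {2,3}-group
  have hqC : ¬ q ∣ Nat.card C := by
    intro h
    obtain ⟨u, hu⟩ := exists_prime_orderOf_dvd_card' q h
    have hu' : orderOf (u : G) = q := by rw [Subgroup.orderOf_coe, hu]
    have hp : IsPGroup q (Subgroup.zpowers (u : G)) :=
      IsPGroup.of_card (n := 1) (by rw [Nat.card_zpowers, hu', pow_one])
    obtain ⟨Q', hQ'⟩ := hp.exists_le_sylow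
    obtain ⟨g, hg⟩ := MulAction.exists_smul_eq G Q' Q
    have hmem : g * (u : G) * g⁻¹ ∈ (Q : Subgroup G) := by
      rw [← hg, Sylow.coe_subgroup_smul]
      exact ⟨(u : G), hQ' (Subgroup.mem_zpowers _), rfl⟩
    have hne : g * (u : G) * g⁻¹ ≠ 1 := fun e => by
      rw [conj_eq_one_iff.1 e, orderOf_one] at hu'
      exact hq.out.ne_one hu'.symm
    have h1 : g * y * g⁻¹ ∈ (Q : Subgroup G) := by
      rw [← hC _ hmem hne, Subgroup.mem_centralizer_singleton_iff,
        show g * y * g⁻¹ * (g * u * g⁻¹) = g * (y * u) * g⁻¹ by group,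
        show g * u * g⁻¹ * (g * y * g⁻¹) = g * (u * y) * g⁻¹ by group,
        Subgroup.mem_centralizer_singleton_iff.1 u.2]
    have h2 := Subgroup.orderOf_dvd_natCard (Q : Subgroup G) h1
    rw [show Nat.card (Q : Subgroup G) = q from hQ, ← MulAut.conj_apply, MulEquiv.orderOf_eq] at h2
    refine hy1 (orderOf_eq_one_iff.1 ?_)
    exact Nat.eq_one_of_dvd_coprimes
      (show Nat.Coprime q (3 ^ 2) from (Nat.Coprime.pow_right 2
        ((Nat.prime_three.coprime_iff_not_dvd.2 hq3).symm)))
      h2 (orderOf_dvd_of_pow_eq_one hy)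
  have hC9 : Nat.card C ∣ 9 * 2 ^ a := by
    refine ((hq.out.coprime_iff_not_dvd.2 hqC).symm).dvd_of_dvd_mul_right ?_
    rw [← hcard]
    exact Subgroup.card_subgroup_dvd_card C
  obtain ⟨P⟩ : Nonempty (Sylow 2 C) := inferInstance
  obtain ⟨x, z, hx, hz, hxz⟩ := Nat.dvd_mul.1 hC9
  obtain ⟨k, -, rfl⟩ := (Nat.dvd_prime_pow Nat.prime_two).1 hz
  have hx9 : x ≤ 9 := Nat.le_of_dvd (by norm_num) hx
  have hxodd : ¬ 2 ∣ x := fun h => by have := h.trans hx; norm_num at this
  have hP : Nat.card (P : Subgroup C) = 2 ^ k := by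
    rw [Sylow.card_eq_multiplicity, ← hxz, Nat.factorization_mul
      (show x ≠ 0 from fun e => hxodd (by rw [e]; exact dvd_zero 2)) (by positivity),
      Finsupp.add_apply, Nat.factorization_eq_zero_of_not_dvd hxodd,
      Nat.Prime.factorization_pow Nat.prime_two, Finsupp.single_eq_same, zero_add]
  haveI := Fintype.ofFinite C
  let y' : C := ⟨y, Subgroup.mem_centralizer_singleton_iff.2 rfl⟩
  let Z : Subgroup C := Subgroup.zpowers y'
  have hyc : ∀ c : C, Commute c y' := fun c =>
    Subtype.ext (Subgroup.mem_centralizer_singleton_iff.1 c.2)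
  haveI hZn : Z.Normal := ⟨fun w hw c => by
    obtain ⟨i, rfl⟩ := Subgroup.mem_zpowers_iff.1 hw
    rw [((hyc c).zpow_right i).eq, mul_inv_cancel_right]
    exact Subgroup.zpow_mem_zpowers y' i⟩
  haveI := Fintype.ofFinite Z
  have hoy : 3 ∣ Nat.card Z := by
    rw [Nat.card_zpowers, ← Subgroup.orderOf_coe]
    obtain ⟨i, -, hi⟩ := (Nat.dvd_prime_pow Nat.prime_three).1
      (show orderOf y ∣ 3 ^ 2 from orderOf_dvd_of_pow_eq_one hy)
    rcases Nat.eq_zero_or_pos i with rfl | hi0
    · exact absurd (orderOf_eq_one_iff.1 (hi.trans (pow_zero 3))) hy1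
    · exact hi ▸ dvd_pow_self 3 hi0.ne'
  have hfac : (Nat.card G).factorization 3 = 2 := by
    rw [hcard, mul_assoc, Nat.factorization_mul (by norm_num)
      (mul_ne_zero (by positivity) hq.out.ne_zero), Finsupp.add_apply,
      Nat.factorization_eq_zero_of_not_dvd (n := 2 ^ a * q) (p := 3) (by
        intro h
        rcases Nat.prime_three.dvd_mul.1 h with h | h
        · have := Nat.prime_three.dvd_of_dvd_pow h; norm_num at this
        · exact hq3 h), show (9 : ℕ) = 3 ^ 2 from rfl,
      Nat.Prime.factorization_pow Nat.prime_three, Finsupp.single_eq_same]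
  have hEne : E ≠ principalIrr G := fun e => by
    rw [e, principalIrr_apply] at hE1; norm_num at hE1
  have hdeg : charDegree (E : G → ℂ) = 9 := by
    simp [charDegree, hE1]
  -- values on the Sylow 2-subgroup
  have hval : ∀ v : (P : Subgroup C), v ≠ 1 →
      (E : G → ℂ) ((v : C) : G) * conj ((E : G → ℂ) ((v : C) : G)) = 9 := by
    intro v hv
    set g : G := ((v : C) : G) with hg
    obtain ⟨i, hi⟩ := P.2 v
    have hgi : g ^ 2 ^ i = 1 := congrArg (fun w : (P : Subgroup C) => ((w : C) : G)) hi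
    have hg1 : g ≠ 1 := fun e => hv (Subtype.ext (Subtype.ext e))
    have h2g : orderOf g ∣ 2 ^ i := orderOf_dvd_of_pow_eq_one hgi
    have hqg : ¬ q ∣ orderOf g := fun h => by
      have := (Nat.prime_dvd_prime_iff_eq hq.out Nat.prime_two).1
        (hq.out.dvd_of_dvd_pow (h.trans h2g))
      omega
    obtain ⟨n, hn⟩ := hEint g hqg
    have hcong := int_congr (irr_isCharacter E) Nat.prime_two hgi hn (d := 9) (by exact_mod_cast hE1)
    obtain ⟨hlo, hhi⟩ := abs_lt hG hEne hg1 (d := 9) (by exact_mod_cast hE1) hn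
    have hF : IsCharacter C (fun w : C => (E : G → ℂ) w) :=
      CfsgLib.Clifford.isCharacter_subtype (irr_isCharacter E) C
    have havg : NormalAvg.avgN Z (fun w : C => (E : G → ℂ) w) (v : C) =
        (Nat.card Z : ℂ)⁻¹ * (n : ℂ) := by
      unfold NormalAvg.avgN
      rw [Finset.sum_eq_single (1 : Z)]
      · simp only [OneMemClass.coe_one, one_mul]; rw [← hn]
      · intro w _ hw
        refine CfsgLib.DefectZeroVanish.vanish_of_defect_zero (p := 3) E
          (by rw [hfac, hdeg]; norm_num) ?_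
        by_contra h3
        have hwc : Commute (w : C) (v : C) := by
          obtain ⟨i', hi'⟩ := Subgroup.mem_zpowers_iff.1 w.2
          rw [← hi']
          exact (hyc (v : C)).symm.zpow_left i'
        refine hw (Subtype.ext ?_)
        have hw9 : (w : C) ^ 9 = 1 := by
          obtain ⟨i', hi'⟩ := Subgroup.mem_zpowers_iff.1 w.2
          rw [← hi', ← zpow_natCast, ← zpow_mul, mul_comm, zpow_mul, zpow_natCast,
            show y' ^ 9 = 1 from Subtype.ext hy, one_zpow]
        set o := orderOf ((w : C) * (v : C)) with ho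
        have h3o : ¬ 3 ∣ o := fun h => h3 (by rwa [ho, ← Subgroup.orderOf_coe] at h)
        have hw1 : (w : C) ^ (o * 2 ^ i) = 1 := by
          have h := pow_orderOf_eq_one ((w : C) * (v : C))
          rw [← ho, hwc.mul_pow] at h
          have h' := congrArg (· ^ 2 ^ i) h
          simp only [(hwc.pow_pow o o).mul_pow, ← pow_mul, one_pow] at h'
          have hv1 : (v : C) ^ (o * 2 ^ i) = 1 := by
            rw [mul_comm, pow_mul, show (v : C) ^ 2 ^ i = 1 from congrArg Subtype.val hi, one_pow]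
          rwa [hv1, mul_one] at h'
        have hcop : Nat.Coprime (3 ^ 2) (o * 2 ^ i) := by
          refine Nat.Coprime.pow_left 2 (Nat.Coprime.mul_right
            (Nat.prime_three.coprime_iff_not_dvd.2 h3o) (Nat.Coprime.pow_right i ?_))
          norm_num
        exact orderOf_eq_one_iff.1 (Nat.eq_one_of_dvd_coprimes hcop
          (orderOf_dvd_of_pow_eq_one hw9) (orderOf_dvd_of_pow_eq_one hw1))
      · intro h; exact absurd (Finset.mem_univ _) h
    have hint : IsIntegral ℤ ((Nat.card Z : ℂ)⁻¹ * (n : ℂ)) :=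
      havg ▸ isIntegral_of_isCharacter (NormalAvg.isCharacter_avgN Z hF) (v : C)
    have h3n : (3 : ℤ) ∣ n := by
      refine (Int.natCast_dvd_natCast.2 hoy).trans
        (dvd_of_eq_mul_integral hint (m := (Nat.card Z : ℤ)) ?_ (by exact_mod_cast Nat.card_pos.ne'))
      push_cast
      rw [← mul_assoc, mul_inv_cancel₀ (Nat.cast_ne_zero.2 Nat.card_pos.ne'), one_mul]
    have hn3 : n = 3 ∨ n = -3 := by push_cast at hcong hlo hhi; omega
    rw [hn, map_intCast]
    rcases hn3 with e | e <;> rw [e] <;> norm_num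
  haveI := Fintype.ofFinite (P : Subgroup C)
  have hres : IsGeneralizedCharacter (P : Subgroup C) (fun v => (E : G → ℂ) ((v : C) : G)) :=
    isGeneralizedCharacter_of_isCharacter (CfsgLib.Clifford.isCharacter_subtype
      (CfsgLib.Clifford.isCharacter_subtype (irr_isCharacter E) C) (P : Subgroup C))
  obtain ⟨w, hw⟩ := classInner_generalized_int hres hres
  rw [classInner, ← Finset.add_sum_erase _ _ (Finset.mem_univ (1 : (P : Subgroup C))),
    Finset.sum_congr rfl (fun v hv => hval v (Finset.ne_of_mem_erase hv)), Finset.sum_const,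
    Finset.card_erase_of_mem (Finset.mem_univ _), Finset.card_univ, ← Nat.card_eq_fintype_card,
    hP, inv_mul_eq_iff_eq_mul₀ (by simp), nsmul_eq_mul, Nat.cast_sub (Nat.one_le_two_pow)] at hw
  simp only [OneMemClass.coe_one, hE1, map_ofNat] at hw
  have h72 : ((2 ^ k : ℕ) : ℤ) ∣ 72 := ⟨w - 9, by
    have : (((72 : ℤ)) : ℂ) = (((((2 ^ k : ℕ) : ℤ)) * (w - 9) : ℤ) : ℂ) := by
      push_cast at hw ⊢
      linear_combination hw
    exact_mod_cast this⟩
  have h72' : 2 ^ k ∣ 8 * 9 := by exact_mod_cast h72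
  have h8 : 2 ^ k ∣ 8 := ((show Nat.Coprime 2 9 by norm_num).pow_left k).dvd_of_dvd_mul_right h72'
  have := Nat.le_of_dvd (by norm_num) h8
  rw [← hxz]
  nlinarith

end CfsgLib.NineTwoPrimes
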