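import Cfsg.Agent.Lib.NineTwoPrimes.Theta
import Mathlib.GroupTheory.PGroup

/-!
# The degrees in the virtual character are prime to three
-/

set_option autoImplicit false
set_option linter.style.haveILetI false
set_option linter.unusedSectionVars false

noncomputable section

namespace CfsgLib.NineTwoPrimes

open Cfsg CfsgLib.Characters CfsgLib.ClassCount
open scoped ComplexConjugate Classical

universe u

variable {G : Type u} [Group G] [Fintype G] [IsSimpleGroup G] (hG : ¬ IsMulCommutative G)

/-- An irreducible character with integer values. -/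
def IntValued (χ : IrrCharacter G) : Prop := ∀ g : G, ∃ z : ℤ, (χ : G → ℂ) g = z

/-- The degree of an irreducible character. -/
theorem exists_deg (χ : IrrCharacter G) :
    ∃ d : ℕ, (χ : G → ℂ) 1 = d ∧ 0 < d ∧ d ∣ Nat.card G :=
  irr_degree_dvd_card χ

namespace Ctx

variable (D : Ctx G)

include hG in
theorem Triple.intValued {L : Subgroup G} (T : D.Triple L) : IntValued T.A := by
  intro g
  refine exists_int_of_fixed (irr_isCharacter T.A) g fun σ => ?_
  let A' : IrrCharacter G := ⟨_, CfsgLib.CharGalois.isIrrCharacter_map σ T.A.2⟩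
  suffices A' = T.A from congrFun (congrArg Subtype.val this) g
  have hθ : ∀ x, σ (D.theta L x) = D.theta L x := fun x => by
    simp only [Ctx.theta]; split_ifs <;> simp [map_ofNat]
  have hinner : ∀ χ : IrrCharacter G, classInner (D.theta L) (χ : G → ℂ) =
      (Nat.card G : ℂ)⁻¹ * ∑ x : G, D.theta L x * (χ : G → ℂ) x⁻¹ := fun χ => by
    rw [classInner]
    simp only [irr_apply_inv]
  have hA' : classInner (D.theta L) (A' : G → ℂ) = (T.a : ℂ) := by
    have h : classInner (D.theta L) (T.A : G → ℂ) = (T.a : ℂ) := by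
      rw [T.coef, if_neg T.A_ne, if_pos rfl, if_neg T.A_ne_B]; simp
    have h' := congrArg σ h
    rw [hinner, map_mul, map_inv₀, map_natCast, map_sum, map_intCast] at h'
    rw [hinner, ← h']
    exact congrArg _ (Finset.sum_congr rfl fun x _ => by rw [map_mul, hθ])
  obtain ⟨dA, hdA, -⟩ := exists_deg T.A
  have hA'1 : (A' : G → ℂ) 1 = dA := show σ ((T.A : G → ℂ) 1) = dA by rw [hdA, map_natCast]
  have h1 := one_lt_degree hG T.A_ne hdA
  have hne1 : A' ≠ principalIrr G := fun e => by
    rw [e, principalIrr_apply] at hA'1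
    have : dA = 1 := by exact_mod_cast hA'1.symm
    omega
  by_contra hne
  rw [T.coef, if_neg hne1, if_neg hne] at hA'
  by_cases hB : A' = T.B
  · obtain ⟨dB, hdB, -⟩ := exists_deg T.B
    have e : dB = dA := by
      rw [hB, hdB] at hA'1; exact_mod_cast hA'1
    subst e
    have h := T.degree_eq_zero hdA hdB
    have hu : IsUnit (dB : ℤ) := isUnit_of_dvd_one ⟨-(T.a + T.b), by linarith⟩
    rcases Int.isUnit_iff.1 hu with h' | h' <;> omega
  · rw [if_neg hB] at hA'
    rcases T.a_sign with h | h <;> rw [h] at hA' <;> norm_num at hA'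

/-- The function nine on a section. -/
def nineSec (y : G) : G → ℂ := fun x => if x ∈ D.sec y then 9 else 0

theorem isClassFunction_nineSec (y : G) : IsClassFunction G (D.nineSec y) := by
  intro x g
  have : g * x * g⁻¹ ∈ D.sec y ↔ x ∈ D.sec y := by
    simp only [D.mem_sec, D.conj_pow_N]
    exact ⟨fun h => h.trans (isConj_iff.2 ⟨g, rfl⟩).symm, fun h => h.trans (isConj_iff.2 ⟨g, rfl⟩)⟩
  simp only [nineSec, this]

theorem sum_sec_eq {y : G} (_h : D.Good y) {χ : G → ℂ} (hχ : IsCharacter G χ) {α : ℂ}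
    (hα : 9 * ∑ x ∈ D.fib y, χ x = (Nat.card (Subgroup.centralizer ({y} : Set G)) : ℂ) * α) :
    9 * ∑ x ∈ D.sec y, χ x = (Nat.card G : ℂ) * α := by
  rw [D.sum_sec χ (isClassFunction_of_isCharacter hχ) y, nsmul_eq_mul, mul_left_comm, hα,
    ← card_cls_mul_centralizer y]
  push_cast
  ring

theorem inner_nineSec {y : G} {χ : IrrCharacter G} (hχ : IntValued χ) {α : ℂ}
    (hα : 9 * ∑ x ∈ D.sec y, (χ : G → ℂ) x = (Nat.card G : ℂ) * α) :
    classInner (D.nineSec y) (χ : G → ℂ) = α := by
  rw [classInner, Finset.sum_congr rfl (g := fun x => if x ∈ D.sec y then 9 * (χ : G → ℂ) x else 0)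
    (fun x _ => by
      obtain ⟨z, hz⟩ := hχ x
      simp only [nineSec, hz]
      split_ifs <;> simp), Finset.sum_ite_mem, Finset.univ_inter, ← Finset.mul_sum, hα,
    ← mul_assoc, inv_mul_cancel₀ (Nat.cast_ne_zero.2 Nat.card_pos.ne'), one_mul]

theorem inner_nineSec_one {y : G} (h : D.Good y) :
    classInner (D.nineSec y) (principalIrr G : G → ℂ) = 1 := by
  refine D.inner_nineSec (fun g => ⟨1, by simp [principalIrr_apply]⟩) ?_
  simp only [principalIrr_apply, Finset.sum_const, nsmul_eq_mul, mul_one]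
  exact_mod_cast D.nine_mul_card_sec h

theorem norm_nineSec {y : G} (h : D.Good y) :
    classInner (D.nineSec y) (D.nineSec y) = 9 := by
  rw [classInner, Finset.sum_congr rfl (g := fun x => if x ∈ D.sec y then (81 : ℂ) else 0)
    (fun x _ => by
      simp only [nineSec]
      split_ifs <;> simp [map_ofNat]
      norm_num), Finset.sum_ite_mem, Finset.univ_inter, Finset.sum_const, nsmul_eq_mul,
    ← D.nine_mul_card_sec h]
  have : ((D.sec y).card : ℂ) ≠ 0 := by
    have := D.nine_mul_card_sec h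
    have : 0 < Nat.card G := Nat.card_pos
    exact Nat.cast_ne_zero.2 (by omega)
  push_cast
  field_simp
  norm_num

/-- Bessel's inequality for a section, with the case of equality. -/
theorem bessel {y : G} (h : D.Good y) (s : Finset (IrrCharacter G)) {m : IrrCharacter G → ℤ}
    (hm : ∀ χ ∈ s, classInner (D.nineSec y) (χ : G → ℂ) = m χ) :
    ∑ χ ∈ s, m χ ^ 2 ≤ 9 ∧ (∑ χ ∈ s, m χ ^ 2 = 9 →
      D.nineSec y = ∑ χ ∈ s, (m χ : ℂ) • (χ : G → ℂ)) := by
  have hcl := D.isClassFunction_nineSec y
  have hnorm := D.norm_nineSec h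
  rw [classInner_eq_sum_mul hcl] at hnorm
  have hre := congrArg Complex.re hnorm
  simp only [Complex.re_sum, Complex.mul_conj, Complex.ofReal_re] at hre
  norm_num at hre
  have hs : ∑ χ ∈ s, Complex.normSq (classInner (D.nineSec y) (χ : G → ℂ)) =
      ((∑ χ ∈ s, m χ ^ 2 : ℤ) : ℝ) := by
    push_cast
    exact Finset.sum_congr rfl fun χ hχ => by
      rw [hm χ hχ, ← Complex.ofReal_intCast, Complex.normSq_ofReal, pow_two]
  rw [← Finset.sum_add_sum_compl s, hs] at hre
  have hnn : 0 ≤ ∑ χ ∈ sᶜ, Complex.normSq (classInner (D.nineSec y) (χ : G → ℂ)) :=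
    Finset.sum_nonneg fun χ _ => Complex.normSq_nonneg _
  refine ⟨by exact_mod_cast (show ((∑ χ ∈ s, m χ ^ 2 : ℤ) : ℝ) ≤ ((9 : ℤ) : ℝ) by
    push_cast at hre ⊢; linarith), fun h9 => ?_⟩
  rw [h9] at hre
  have h0 := (Finset.sum_eq_zero_iff_of_nonneg fun χ _ => Complex.normSq_nonneg _).1
    (show ∑ χ ∈ sᶜ, Complex.normSq (classInner (D.nineSec y) (χ : G → ℂ)) = 0 by
      push_cast at hre; linarith)
  conv_lhs => rw [classFunction_eq_sum hcl]
  refine (Finset.sum_subset (Finset.subset_univ s) fun χ _ hχ => ?_).symm.trans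
    (Finset.sum_congr rfl fun χ hχ => by rw [hm χ hχ])
  rw [Complex.normSq_eq_zero.1 (h0 χ (Finset.mem_compl.2 hχ)), zero_smul]

/-- An integer-valued character of degree divisible by three has multiplicity a multiple of three
in every good section. -/
theorem exists_three_dvd {y : G} (h : D.Good y) {χ : IrrCharacter G} (hχ : IntValued χ) {d : ℕ}
    (hd : (χ : G → ℂ) 1 = d) (h3 : 3 ∣ d) :
    ∃ α : ℤ, 3 ∣ α ∧ 9 * ∑ x ∈ D.fib y, (χ : G → ℂ) x =
      (Nat.card (Subgroup.centralizer ({y} : Set G)) : ℂ) * α := by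
  haveI : Fact (Nat.Prime 3) := ⟨Nat.prime_three⟩
  choose v hv using hχ
  obtain ⟨α, hαi, hα⟩ := D.exists_avg h (irr_isCharacter χ)
  obtain ⟨K, -, hK3, hcard, -⟩ := D.exists_complement h
  set Sm : ℤ := ∑ x ∈ D.fib y, v x with hSm
  have hS : ∑ x ∈ D.fib y, (χ : G → ℂ) x = (Sm : ℂ) := by
    rw [hSm, Int.cast_sum]; exact Finset.sum_congr rfl fun x _ => hv x
  rw [hS, hcard] at hα
  have hα' : (Sm : ℂ) = (Nat.card K : ℤ) * α := by
    push_cast at hα ⊢
    linear_combination hα / 9
  have hK0 : (Nat.card K : ℤ) ≠ 0 := by exact_mod_cast (Nat.card_pos (α := K)).ne'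
  obtain ⟨β, hβ⟩ := dvd_of_eq_mul_integral hαi hα' hK0
  refine ⟨β, ?_, ?_⟩
  swap
  · rw [hS, hcard, hβ]; push_cast; ring
  suffices h3S : (3 : ℤ) ∣ Sm by
    rw [hβ] at h3S
    exact (Int.prime_three.dvd_or_dvd h3S).resolve_left fun h' =>
      hK3 (by exact_mod_cast h')
  -- a common value of a fixed point is a multiple of three
  have hfix : ∀ x, (∀ r ∈ (D.R : Subgroup G), r * x = x * r) → (3 : ℤ) ∣ v x := by
    intro x hx
    have hle : (D.R : Subgroup G) ≤ Subgroup.centralizer ({x} : Set G) := fun r hr =>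
      Subgroup.mem_centralizer_singleton_iff.2 (hx r hr)
    have h' := (Subgroup.card_dvd_of_le hle)
    rw [D.card_R] at h'
    have hidx : ¬ 3 ∣ (Subgroup.centralizer ({x} : Set G)).index := by
      intro hd'
      obtain ⟨c, hc⟩ := Nat.mul_dvd_mul h' hd'
      rw [Subgroup.card_mul_index, D.card_G, mul_assoc] at hc
      exact D.coprime ⟨c, Nat.eq_of_mul_eq_mul_left (show 0 < 9 by norm_num) hc⟩
    obtain ⟨c, hc⟩ := h3
    have hw := centralChar_isIntegral χ x
    rw [centralChar, hv x, hd, hc] at hw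
    have hd0 : c ≠ 0 := fun e => irr_one_ne_zero χ (by rw [hd, hc, e]; simp)
    have h' : (((3 * c : ℕ) : ℤ)) ∣ ((Subgroup.centralizer ({x} : Set G)).index : ℤ) * v x := by
      refine dvd_of_eq_mul_integral hw ?_ (by exact_mod_cast (by omega : 3 * c ≠ 0))
      push_cast
      field_simp
    exact (Int.prime_three.dvd_or_dvd ((Int.natCast_dvd_natCast.2 ⟨c, rfl⟩).trans h' :
      ((3 : ℕ) : ℤ) ∣ _)).resolve_left fun h'' => hidx (by exact_mod_cast h'')
  rw [hSm, ← Finset.sum_fiberwise_of_maps_to (t := (D.fib y).image v)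
    (fun x hx => Finset.mem_image_of_mem v hx)]
  refine Finset.dvd_sum fun k _ => ?_
  rw [Finset.sum_congr rfl (fun x hx => (Finset.mem_filter.1 hx).2), Finset.sum_const,
    nsmul_eq_mul]
  by_cases hk : (3 : ℤ) ∣ k
  · exact dvd_mul_of_dvd_right hk _
  refine dvd_mul_of_dvd_left (Int.natCast_dvd_natCast.2 (?_ : 3 ∣ _)) _
  set X := (D.fib y).filter fun x => v x = k
  have hX : ∀ r : (D.R : Subgroup G), ∀ x : {x // x ∈ X}, (r : G) * x * (r : G)⁻¹ ∈ X := by
    rintro r ⟨x, hx⟩
    obtain ⟨hx1, hx2⟩ := Finset.mem_filter.1 hx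
    refine Finset.mem_filter.2 ⟨?_, ?_⟩
    · rw [D.mem_fib, D.conj_pow_N, D.mem_fib.1 hx1, D.comm_of_mem r.2 h.1, mul_inv_cancel_right]
    · have e := irr_isClassFunction χ x r
      rw [hv, hv] at e
      rw [← hx2]
      exact_mod_cast e
  let act : MulAction (D.R : Subgroup G) {x // x ∈ X} :=
    { smul := fun r x => ⟨_, hX r x⟩
      one_smul := fun x => Subtype.ext (by show (1 : G) * x * (1 : G)⁻¹ = x; simp)
      mul_smul := fun r s x => Subtype.ext (by
        show ((r : G) * s) * x * ((r : G) * s)⁻¹ = r * ((s : G) * x * (s : G)⁻¹) * (r : G)⁻¹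
        group) }
  letI := act
  have hmod := D.R.2.card_modEq_card_fixedPoints {x // x ∈ X}
  have hempty : IsEmpty (MulAction.fixedPoints (D.R : Subgroup G) {x // x ∈ X}) := by
    refine ⟨fun ⟨⟨x, hx⟩, hxf⟩ => hk ?_⟩
    rw [← (Finset.mem_filter.1 hx).2]
    refine hfix x fun r hr => ?_
    have := congrArg Subtype.val (hxf ⟨r, hr⟩)
    exact mul_inv_eq_iff_eq_mul.1 this
  rw [Nat.card_of_isEmpty (α := MulAction.fixedPoints (D.R : Subgroup G) {x // x ∈ X}),
    Nat.card_eq_fintype_card, Fintype.card_coe] at hmod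
  exact (Nat.modEq_zero_iff_dvd).1 hmod

include hG in
/-- A character of degree divisible by three does not occur in a good section. -/
theorem sum_fib_eq_zero {y : G} (h : D.Good y) {χ : IrrCharacter G} (hχ : IntValued χ)
    (hne : χ ≠ principalIrr G) {d : ℕ} (hd : (χ : G → ℂ) 1 = d) (h3 : 3 ∣ d) :
    ∑ x ∈ D.fib y, (χ : G → ℂ) x = 0 := by
  obtain ⟨α, h3α, hα⟩ := D.exists_three_dvd h hχ hd h3
  have hin := D.inner_nineSec hχ (D.sum_sec_eq h (irr_isCharacter χ) hα)
  have hb := (D.bessel h {principalIrr G, χ}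
    (m := fun ξ => if ξ = principalIrr G then 1 else α) (fun ξ hξ => by
      simp only [Finset.mem_insert, Finset.mem_singleton] at hξ
      rcases hξ with rfl | rfl
      · rw [if_pos rfl, D.inner_nineSec_one h, Int.cast_one]
      · rw [if_neg hne, hin])).1
  rw [Finset.sum_pair (Ne.symm hne), if_pos rfl, if_neg hne] at hb
  obtain ⟨k, rfl⟩ := h3α
  have hk : k = 0 := by
    have h1 : k < 1 := by nlinarith
    have h2 : -1 < k := by nlinarith
    omega
  subst hk
  simpa using hα

theorem sec_subset_supp {L : Subgroup G} {y : G} (hy : y ∈ (D.R : Subgroup G)) (hyL : y ∉ L) :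
    D.sec y ⊆ D.supp L := fun _ hx => D.mem_supp.2 ⟨y, hy, hyL, D.mem_sec.1 hx⟩

include hG in
/-- The partner of a character of degree divisible by three has coefficient two. -/
theorem partner_coef {L : Subgroup G} (T : D.Triple L) {y : G} (h : D.Good y) (hyL : y ∉ L)
    {d : ℕ} (hd : (T.A : G → ℂ) 1 = d) (h3 : 3 ∣ d) :
    classInner (D.nineSec y) (T.B : G → ℂ) = ((2 * T.b : ℤ) : ℂ) := by
  have hintA := T.intValued hG
  have hintB : IntValued T.B := T.swap.intValued hG
  have h0 := D.sum_fib_eq_zero hG h hintA T.A_ne hd h3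
  obtain ⟨β, -, hβ⟩ := D.exists_avg h (irr_isCharacter T.B)
  have hs := D.sum_sec_eq h (irr_isCharacter T.B) hβ
  rw [D.inner_nineSec hintB hs]
  -- evaluate the virtual character on the section
  have e1 : ∑ x ∈ D.sec y, D.theta L x = 3 * (D.sec y).card := by
    rw [Finset.sum_congr rfl (f := D.theta L) (g := fun _ => (3 : ℂ)) fun x hx =>
      if_pos (D.sec_subset_supp h.1 hyL hx), Finset.sum_const,
      nsmul_eq_mul, mul_comm]
  have e2 : ∑ x ∈ D.sec y, (T.A : G → ℂ) x = 0 := by
    rw [D.sum_sec _ (irr_isClassFunction T.A) y, h0, smul_zero]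
  rw [Finset.sum_congr rfl fun x _ => T.eq x, Finset.sum_add_distrib, Finset.sum_add_distrib,
    ← Finset.mul_sum, ← Finset.mul_sum, e2, Finset.sum_const, nsmul_eq_mul, mul_one, mul_zero,
    add_zero] at e1
  have hc : (9 : ℂ) * (D.sec y).card = Nat.card G := by exact_mod_cast D.nine_mul_card_sec h
  have hb : (T.b : ℂ) * T.b = 1 := by rcases T.b_sign with e | e <;> rw [e] <;> norm_num
  refine mul_left_cancel₀ (Nat.cast_ne_zero.2 (Nat.card_pos (α := G)).ne') ?_
  push_cast
  linear_combination -hs + 9 * (T.b : ℂ) * e1 + (2 * (T.b : ℂ)) * hc -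
    9 * (∑ x ∈ D.sec y, (T.B : G → ℂ) x) * hb

/-- The situation given by the automizer. -/
inductive Shape : Prop
  | inversion (L : Subgroup G) (hL : D.Line L)
      (hgood : ∀ y ∈ (D.R : Subgroup G), y ∉ L → D.Good y)
  | diagonal (L L' : Subgroup G) (hL : D.Line L) (hL' : D.Line L')
      (hgood : ∀ y ∈ (D.R : Subgroup G), y ∉ L → y ∉ L' → D.Good y)
      (htrans : ∀ y ∈ (D.R : Subgroup G), y ∉ L → y ∉ L' →
        ∀ y' ∈ (D.R : Subgroup G), y' ∉ L → y' ∉ L' → IsConj y y')
      (hne : ∃ y ∈ (D.R : Subgroup G), y ∉ L ∧ y ∉ L')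

/-- The data extracted from the three-local structure. -/
def Coprime3 (L : Subgroup G) (T : D.Triple L) : Prop :=
  ∀ dA dB : ℕ, (T.A : G → ℂ) 1 = dA → (T.B : G → ℂ) 1 = dB → ¬ 3 ∣ dA ∧ ¬ 3 ∣ dB

include hG in
/-- Some triple has both degrees prime to three. -/
theorem exists_coprime_triple (hinv : ∀ y ∈ (D.R : Subgroup G), IsConj y y⁻¹) (hs : D.Shape) :
    ∃ L L' : Subgroup G, D.Line L ∧ Nat.card L' ≤ 3 ∧
      (∀ y ∈ (D.R : Subgroup G), y ∉ L → y ∉ L' → D.Good y) ∧
      3 * (D.supp L).card = Nat.card G ∧ ∃ T : D.Triple L, D.Coprime3 L T := by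
  have hswap : ∀ {L : Subgroup G} (T : D.Triple L), ¬ D.Coprime3 L T →
      ∃ T' : D.Triple L, ∃ d : ℕ, (T'.A : G → ℂ) 1 = d ∧ 3 ∣ d := by
    intro L T hT
    simp only [Coprime3, not_forall, not_and_or, not_not] at hT
    obtain ⟨dA, dB, hA, hB, h | h⟩ := hT
    · exact ⟨T, dA, hA, h⟩
    · exact ⟨T.swap, dB, hB, h⟩
  rcases hs with ⟨L, hL, hgood⟩ | ⟨L, L', hL, hL', hgood, htrans, y, hy, hyL, hyL'⟩
  · have hsupp := D.three_mul_card_supp hL (L' := L) hL.card.le (fun y hy h1 _ => hgood y hy h1) hinv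
    obtain ⟨T⟩ := D.exists_triple hL hsupp
    refine ⟨L, L, hL, hL.card.le, fun y hy h1 _ => hgood y hy h1, hsupp, T, ?_⟩
    by_contra hT
    obtain ⟨T', d, hd, h3⟩ := hswap T hT
    have hint := T'.intValued hG
    have h0 : classInner (D.theta L) (T'.A : G → ℂ) = 0 := by
      rw [classInner, mul_eq_zero]
      refine Or.inr ?_
      rw [Finset.sum_congr rfl (g := fun x => if x ∈ D.supp L then 3 * (T'.A : G → ℂ) x else 0)
        (fun x _ => by
          obtain ⟨z, hz⟩ := hint x
          simp only [theta, hz]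
          split_ifs <;> simp), Finset.sum_ite_mem, Finset.univ_inter, ← Finset.mul_sum,
        ← Finset.sum_fiberwise_of_maps_to (g := fun x => x ^ D.N) (t := Finset.univ)
          (fun x _ => Finset.mem_univ _), Finset.sum_eq_zero, mul_zero]
      intro w _
      by_cases hw : ((D.supp L).filter fun x => x ^ D.N = w).Nonempty
      · obtain ⟨x, hx⟩ := hw
        obtain ⟨hx1, rfl⟩ := Finset.mem_filter.1 hx
        obtain ⟨y, hy, hyL, hc⟩ := D.mem_supp.1 hx1
        have e : ((D.supp L).filter fun z => z ^ D.N = x ^ D.N) = D.fib (x ^ D.N) := by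
          ext z
          simp only [Finset.mem_filter, D.mem_fib, and_iff_right_iff_imp]
          intro e
          exact D.mem_supp.2 ⟨y, hy, hyL, e ▸ hc⟩
        rw [e, D.sum_fib_conj _ (irr_isClassFunction T'.A) hc]
        exact D.sum_fib_eq_zero hG (hgood y hy hyL) hint T'.A_ne hd h3
      · rw [Finset.not_nonempty_iff_eq_empty.1 hw, Finset.sum_empty]
    rw [T'.coef, if_neg T'.A_ne, if_pos rfl, if_neg T'.A_ne_B] at h0
    rcases T'.a_sign with e | e <;> rw [e] at h0 <;> norm_num at h0
  · have hsupp := D.three_mul_card_supp hL hL'.card.le hgood hinv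
    have hgood' : ∀ y ∈ (D.R : Subgroup G), y ∉ L' → y ∉ L → D.Good y :=
      fun y hy h1 h2 => hgood y hy h2 h1
    have hsupp' := D.three_mul_card_supp hL' hL.card.le hgood' hinv
    obtain ⟨T⟩ := D.exists_triple hL hsupp
    obtain ⟨S⟩ := D.exists_triple hL' hsupp'
    by_contra hno
    push Not at hno
    obtain ⟨T, dA, hdA, hA3⟩ := hswap T (hno L L' hL hL'.card.le hgood hsupp T)
    obtain ⟨S, dA', hdA', hA3'⟩ := hswap S (hno L' L hL' hL.card.le hgood' hsupp' S)
    have hg := hgood y hy hyL hyL'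
    have hβ := D.partner_coef hG T hg hyL hdA hA3
    have hβ' := D.partner_coef hG S hg hyL' hdA' hA3'
    have hα : classInner (D.nineSec y) (T.A : G → ℂ) = 0 := by
      refine D.inner_nineSec (T.intValued hG) ?_
      rw [D.sum_sec _ (irr_isClassFunction T.A) y,
        D.sum_fib_eq_zero hG hg (T.intValued hG) T.A_ne hdA hA3, smul_zero, mul_zero, mul_zero]
    have hα' : classInner (D.nineSec y) (S.A : G → ℂ) = 0 := by
      refine D.inner_nineSec (S.intValued hG) ?_
      rw [D.sum_sec _ (irr_isClassFunction S.A) y,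
        D.sum_fib_eq_zero hG hg (S.intValued hG) S.A_ne hdA' hA3', smul_zero, mul_zero, mul_zero]
    have hb2 : ∀ {z : ℤ}, (z = 1 ∨ z = -1) → ((2 * z : ℤ) : ℂ) ≠ 0 := by
      rintro z (rfl | rfl) <;> norm_num
    by_cases hBB : T.B = S.B
    · rw [← hBB, hβ] at hβ'
      have hbb : T.b = S.b := by
        have : 2 * T.b = 2 * S.b := by exact_mod_cast hβ'
        omega
      -- the two virtual characters meet in the section of `y`
      have hint : classInner (D.theta L) (D.theta L') = 1 := by
        have hinter : D.supp L ∩ D.supp L' = D.sec y := by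
          refine Finset.Subset.antisymm (fun x hx => ?_) (Finset.subset_inter
            (D.sec_subset_supp hy hyL) (D.sec_subset_supp hy hyL'))
          obtain ⟨hx1, hx2⟩ := Finset.mem_inter.1 hx
          obtain ⟨w, hw, hwL, hc⟩ := D.mem_supp.1 hx1
          obtain ⟨w', hw', hwL', hc'⟩ := D.mem_supp.1 hx2
          have hwL'' : w ∉ L' := fun hh => hwL' (D.mem_line_of_conj hL' hh hw' (hc.trans hc'.symm))
          exact D.mem_sec.2 ((htrans y hy hyL hyL' w hw hwL hwL'').trans hc)
        rw [classInner, Finset.sum_congr rfl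
          (g := fun x => if x ∈ D.supp L ∩ D.supp L' then (9 : ℂ) else 0) (fun x _ => by
          simp only [theta, Finset.mem_inter]
          by_cases h1 : x ∈ D.supp L <;> by_cases h2 : x ∈ D.supp L' <;> simp [h1, h2, map_ofNat]
          norm_num), Finset.sum_ite_mem, Finset.univ_inter, hinter, Finset.sum_const, nsmul_eq_mul,
          ← D.nine_mul_card_sec hg]
        have : ((D.sec y).card : ℂ) ≠ 0 := by
          have := D.nine_mul_card_sec hg
          have : 0 < Nat.card G := Nat.card_pos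
          exact Nat.cast_ne_zero.2 (by omega)
        push_cast
        field_simp
      rw [classInner_eq_sum_mul (D.isClassFunction_theta L'),
        Finset.sum_congr rfl fun χ _ => by rw [T.coef χ, S.coef χ]] at hint
      simp only [add_mul, ite_mul, one_mul, zero_mul, Finset.sum_add_distrib, Finset.sum_ite_eq',
        Finset.mem_univ, if_true, map_add] at hint
      have n1 : principalIrr G ≠ S.A := S.A_ne.symm
      have n2 : principalIrr G ≠ S.B := S.B_ne.symm
      have n3 : T.A ≠ S.B := fun e => hb2 S.b_sign (by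
        rw [e, ← hBB, hβ, hbb] at hα; exact hα)
      have n4 : T.B ≠ S.A := fun e => hb2 T.b_sign (by rw [← hβ, e, hα'])
      simp only [T.A_ne, T.B_ne, n1, n2, n3, n4, if_false, if_pos hBB, map_zero,
        add_zero, zero_add, map_one, map_intCast, ← hbb] at hint
      have hb : (T.b : ℂ) * T.b = 1 := by rcases T.b_sign with e | e <;> rw [e] <;> norm_num
      by_cases hAA : T.A = S.A
      · rw [if_pos hAA, map_intCast] at hint
        have haa : T.a * S.a = -1 := by
          have : (T.a : ℂ) * S.a = ((-1 : ℤ) : ℂ) := by push_cast; linear_combination hint - hb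
          exact_mod_cast this
        obtain ⟨dB, hdB, -⟩ := exists_deg T.B
        have e : dA' = dA := by rw [hAA, hdA'] at hdA; exact_mod_cast hdA
        have h1 := T.degree_eq_zero hdA hdB
        have h2 := S.degree_eq_zero hdA' (hBB ▸ hdB)
        rw [e, ← hbb] at h2
        have hz : (T.a - S.a) * (dA : ℤ) = 0 := by linarith
        have hpos : (dA : ℤ) ≠ 0 := by
          exact_mod_cast fun e' : dA = 0 => irr_one_ne_zero T.A (by rw [hdA, e']; simp)
        rcases mul_eq_zero.1 hz with h' | h'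
        · have : T.a = S.a := by linarith
          rw [this] at haa
          nlinarith
        · exact hpos h'
      · rw [if_neg hAA] at hint
        simp only [map_zero, mul_zero, add_zero] at hint
        have : (1 : ℂ) = 0 := by linear_combination hint - hb
        norm_num at this
    · -- equality in Bessel's inequality
      let m : IrrCharacter G → ℤ := fun ξ =>
        if ξ = principalIrr G then 1 else if ξ = T.B then 2 * T.b else 2 * S.b
      have hm : ∀ χ ∈ ({principalIrr G, T.B, S.B} : Finset (IrrCharacter G)),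
          classInner (D.nineSec y) (χ : G → ℂ) = m χ := by
        intro χ hχ
        simp only [Finset.mem_insert, Finset.mem_singleton] at hχ
        rcases hχ with rfl | rfl | rfl
        · simp [m, D.inner_nineSec_one hg]
        · simp only [m, if_neg T.B_ne, if_pos]; exact hβ
        · simp only [m, if_neg S.B_ne, if_neg (Ne.symm hBB)]; exact hβ'
      have hsum : ∑ χ ∈ ({principalIrr G, T.B, S.B} : Finset (IrrCharacter G)), m χ ^ 2 = 9 := by
        rw [Finset.sum_insert (by simp [Ne.symm T.B_ne, Ne.symm S.B_ne]), Finset.sum_pair hBB]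
        simp only [m, if_pos, if_neg T.B_ne, if_neg S.B_ne, if_neg (Ne.symm hBB)]
        rcases T.b_sign with e | e <;> rcases S.b_sign with e' | e' <;> rw [e, e'] <;> norm_num
      have heq := congrFun ((D.bessel hg _ hm).2 hsum) 1
      have h1 : (1 : G) ∉ D.sec y := by
        rw [D.mem_sec, one_pow]
        exact fun hh => hyL (isConj_one_left.1 hh ▸ one_mem L)
      obtain ⟨dB, hdB, -⟩ := exists_deg T.B
      obtain ⟨dB', hdB', -⟩ := exists_deg S.B
      rw [nineSec, if_neg h1, Finset.sum_apply,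
        Finset.sum_insert (by simp [Ne.symm T.B_ne, Ne.symm S.B_ne]), Finset.sum_pair hBB] at heq
      simp only [m, Pi.smul_apply, smul_eq_mul, if_pos, if_neg T.B_ne, if_neg S.B_ne,
        if_neg (Ne.symm hBB), hdB, hdB', principalIrr_apply] at heq
      have : (0 : ℤ) = 1 + (2 * T.b * dB + 2 * S.b * dB') := by
        push_cast at heq
        have h' : ((0 : ℤ) : ℂ) = ((1 + (2 * T.b * dB + 2 * S.b * dB') : ℤ) : ℂ) := by
          push_cast
          linear_combination heq
        exact_mod_cast h'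
      rw [mul_assoc, mul_assoc, ← mul_add] at this
      omega

end Ctx

end CfsgLib.NineTwoPrimes
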