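import Cfsg.Agent.Lib.NineTwoPrimes.Degrees
import Cfsg.Agent.Lib.NineTwoPrimes.AutNine
import Cfsg.Agent.Lib.Small.AbelianFocal

/-!
# The automizer of a Sylow subgroup of order nine with three classes of three-elements
-/

set_option autoImplicit false
set_option linter.style.haveILetI false
set_option linter.unusedSectionVars false

noncomputable section

namespace CfsgLib.NineTwoPrimes

open scoped Classical

universe u

variable {G : Type u} [Group G] [Fintype G] [IsSimpleGroup G] (hG : ¬ IsMulCommutative G)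

include hG in
theorem exists_local {m : ℕ} (hcard : Nat.card G = 9 * m) (hco : ¬ 3 ∣ m)
    (h3 : 3 ≤ Nat.card {C : ConjClasses G // ∃ g ∈ C.carrier, g ≠ 1 ∧ orderOf g ∣ 9}) :
    ∃ D : Ctx G, D.m = m ∧ (∀ y ∈ (D.R : Subgroup G), IsConj y y⁻¹) ∧ D.Shape := by
  haveI : Fact (Nat.Prime 3) := ⟨Nat.prime_three⟩
  obtain ⟨R⟩ : Nonempty (Sylow 3 G) := inferInstance
  have hR : Nat.card (R : Subgroup G) = 9 := by
    rw [Sylow.card_eq_multiplicity, hcard, Nat.factorization_mul (by norm_num)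
      (show m ≠ 0 from fun h => hco (by rw [h]; exact dvd_zero 3)), Finsupp.add_apply,
      Nat.factorization_eq_zero_of_not_dvd hco, show (9 : ℕ) = 3 ^ 2 from rfl,
      Nat.Prime.factorization_pow Nat.prime_three, Finsupp.single_eq_same]
  obtain ⟨D, rfl, hm⟩ := exists_ctx R hR hcard hco
  refine ⟨D, hm, ?_⟩
  letI : CommGroup (D.R : Subgroup G) :=
    { (inferInstance : Group (D.R : Subgroup G)) with
      mul_comm := fun a b => D.isMulCommutative_R.is_comm.comm a b }
  let f := (D.R : Subgroup G).normalizerMonoidHom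
  have hf : ∀ n x, (f n x : G) = (n : G) * x * (n : G)⁻¹ := fun _ _ => rfl
  have hcoΓ : ¬ 3 ∣ Nat.card f.range := by
    intro hd
    rw [← Nat.card_congr (QuotientGroup.quotientKerEquivRange f).toEquiv,
      ← Subgroup.index_eq_card] at hd
    have hle : (D.R : Subgroup G).subgroupOf
        (Subgroup.normalizer ((D.R : Subgroup G) : Set G)) ≤ f.ker := by
      intro n hn
      rw [MonoidHom.mem_ker]
      refine MulEquiv.ext fun x => Subtype.ext ?_
      rw [hf, MulAut.one_apply, D.comm_of_mem (Subgroup.mem_subgroupOf.1 hn) x.2,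
        mul_inv_cancel_right]
    exact D.R.not_dvd_index (hd.trans ((Subgroup.index_dvd_of_le hle).trans
      (Subgroup.relIndex_dvd_index_of_le Subgroup.le_normalizer)))
  have hfoc : ∀ M : Subgroup (D.R : Subgroup G), M ≠ ⊤ → ∃ γ ∈ f.range, ∃ x, x⁻¹ * γ x ∉ M := by
    intro M hM
    by_contra hno
    push Not at hno
    refine hM (top_unique fun x _ => ?_)
    have hle : ⁅(D.R : Subgroup G), Subgroup.normalizer ((D.R : Subgroup G) : Set G)⁆ ≤
        M.map (D.R : Subgroup G).subtype := by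
      rw [Subgroup.commutator_le]
      intro y hy n hn
      have hy' : y⁻¹ ∈ (D.R : Subgroup G) := inv_mem hy
      refine Subgroup.mem_map.2 ⟨_, hno _ ⟨⟨n, hn⟩, rfl⟩ ⟨y⁻¹, hy'⟩, ?_⟩
      show y⁻¹⁻¹ * (n * y⁻¹ * n⁻¹) = _
      rw [inv_inv, commutatorElement_def]
      simp only [mul_assoc]
    obtain ⟨x', hx', e⟩ := Subgroup.mem_map.1
      (hle (CfsgLib.Small.sylow_le_commutator_normalizer hG D.R D.isMulCommutative_R x.2))
    rwa [Subtype.ext e] at hx'
  have hfus : ∀ γ ∈ f.range, ∀ x : (D.R : Subgroup G), IsConj (x : G) (γ x : G) := by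
    rintro γ ⟨n, rfl⟩ x
    exact isConj_iff.2 ⟨n, (hf n x).symm⟩
  have horb : ∀ x y : (D.R : Subgroup G), ∃ z, z ≠ 1 ∧ ∀ γ ∈ f.range, γ x ≠ z ∧ γ y ≠ z := by
    intro x y
    by_contra hno
    push Not at hno
    let T := {C : ConjClasses G // ∃ g ∈ C.carrier, g ≠ 1 ∧ orderOf g ∣ 9}
    have hcov : ∀ C : T, C.1 = ConjClasses.mk (x : G) ∨ C.1 = ConjClasses.mk (y : G) := by
      rintro ⟨C, g, hgC, hg1, hg9⟩
      have hP : IsPGroup 3 (Subgroup.zpowers g) := by
        obtain ⟨k, -, hk⟩ := (Nat.dvd_prime_pow Nat.prime_three).1 (show orderOf g ∣ 3 ^ 2 from hg9)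
        exact IsPGroup.of_card (n := k) (by rw [Nat.card_zpowers, hk])
      obtain ⟨Q, hQ⟩ := hP.exists_le_sylow
      obtain ⟨c, hc⟩ := MulAction.exists_smul_eq G Q D.R
      have hmem : c * g * c⁻¹ ∈ (D.R : Subgroup G) := by
        rw [← hc, Sylow.coe_subgroup_smul]
        exact ⟨g, hQ (Subgroup.mem_zpowers g), rfl⟩
      have hz : (⟨_, hmem⟩ : (D.R : Subgroup G)) ≠ 1 := fun e => hg1 (conj_eq_one_iff.1
        (congrArg Subtype.val e))
      obtain ⟨γ, hγ, h⟩ := hno _ hz
      have hC : C = ConjClasses.mk (c * g * c⁻¹) := by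
        rw [← ConjClasses.mem_carrier_iff_mk_eq.1 hgC, ConjClasses.mk_eq_mk_iff_isConj]
        exact isConj_iff.2 ⟨c, rfl⟩
      by_cases hx : γ x = ⟨_, hmem⟩
      · refine Or.inl (hC.trans ?_)
        rw [ConjClasses.mk_eq_mk_iff_isConj]
        have := hfus γ hγ x
        rw [hx] at this
        exact this.symm
      · refine Or.inr (hC.trans ?_)
        rw [ConjClasses.mk_eq_mk_iff_isConj]
        have := hfus γ hγ y
        rw [h hx] at this
        exact this.symm
    have h2 : Nat.card T ≤ 2 := by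
      refine le_trans (Nat.card_le_card_of_injective
        (fun C : T => decide (C.1 = ConjClasses.mk (x : G))) ?_) (le_of_eq (by simp))
      intro C C' h
      simp only [decide_eq_decide] at h
      apply Subtype.ext
      rcases hcov C with e | e
      · exact e.trans (h.1 e).symm
      · rcases hcov C' with e' | e'
        · exact (h.2 e').trans e'.symm
        · exact e.trans e'.symm
    have : 3 ≤ Nat.card T := h3
    omega
  have hRne : ∀ L : Subgroup G, Nat.card L = 3 → ∃ y ∈ (D.R : Subgroup G), y ∉ L := by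
    intro L hL
    by_contra hall
    push Not at hall
    have := Subgroup.card_le_of_le hall
    rw [D.card_R, hL] at this
    omega
  obtain ⟨⟨ι, hι, hιinv⟩, hcases⟩ := aut_cases D.card_R f.range hcoΓ horb hfoc
  refine ⟨fun y hy => ?_, ?_⟩
  · have := hfus ι hι ⟨y, hy⟩
    rwa [hιinv] at this
  have hact : ∀ {y : G} (hy : y ∈ (D.R : Subgroup G)) {g : G}, g ∈
      Subgroup.centralizer ({y} : Set G) ⊓ Subgroup.normalizer ((D.R : Subgroup G) : Set G) →
      ∃ γ ∈ f.range, γ (⟨y, hy⟩ : (D.R : Subgroup G)) = ⟨y, hy⟩ ∧ ∀ x, (γ x : G) = g * x * g⁻¹ := by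
    intro y hy g hg
    refine ⟨f ⟨g, hg.2⟩, ⟨_, rfl⟩, Subtype.ext ?_, fun x => rfl⟩
    show g * y * g⁻¹ = y
    rw [Subgroup.mem_centralizer_singleton_iff.1 hg.1, mul_inv_cancel_right]
  have hgood : ∀ {y : G} (hy : y ∈ (D.R : Subgroup G)),
      (∀ γ ∈ f.range, γ (⟨y, hy⟩ : (D.R : Subgroup G)) = ⟨y, hy⟩ → ∀ x, γ x = x) → D.Good y := by
    intro y hy h
    refine ⟨hy, fun g hg => Subgroup.mem_centralizer_iff.2 fun x hx => ?_⟩
    obtain ⟨γ, hγ, hfix, hval⟩ := hact hy hg
    have e := hval ⟨x, hx⟩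
    rw [h γ hγ hfix] at e
    exact eq_mul_inv_iff_mul_eq.1 e
  rcases hcases with hI | ⟨u, z, hu, hz, hzu, hkeep, htrans, hstab⟩
  · obtain ⟨v, hv⟩ := exists_prime_orderOf_dvd_card' 3
      (show 3 ∣ Nat.card (D.R : Subgroup G) by rw [D.card_R]; norm_num)
    let L : Subgroup G := (Subgroup.zpowers v).map (D.R : Subgroup G).subtype
    have hLmem : ∀ w : (D.R : Subgroup G), (w : G) ∈ L ↔ w ∈ Subgroup.zpowers v := fun w =>
      ⟨fun h => by
        obtain ⟨w', hw', e⟩ := Subgroup.mem_map.1 h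
        rwa [Subtype.ext e] at hw', fun h => Subgroup.mem_map.2 ⟨w, h, rfl⟩⟩
    refine Ctx.Shape.inversion L ⟨Subgroup.map_subtype_le _, ?_, ?_⟩ fun y hy hyL => ?_
    · show Nat.card ↥((Subgroup.zpowers v).map (D.R : Subgroup G).subtype) = 3
      rw [Nat.card_congr ((Subgroup.zpowers v).equivMapOfInjective _
        (D.R : Subgroup G).subtype_injective).symm.toEquiv, Nat.card_zpowers, hv]
    · intro n hn y hy
      obtain ⟨w, hw, rfl⟩ := Subgroup.mem_map.1 hy
      show (f ⟨n, hn⟩ w : G) ∈ L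
      rw [hLmem]
      rcases hI _ ⟨⟨n, hn⟩, rfl⟩ with h | h <;> rw [h]
      · exact hw
      · exact inv_mem hw
    · refine hgood hy fun γ hγ hfix => (hI γ hγ).resolve_right fun h => ?_
      exact ne_inv_of_ne_one D.card_R (y := (⟨y, hy⟩ : (D.R : Subgroup G)))
        (fun e => hyL (by rw [show y = 1 from congrArg Subtype.val e]; exact one_mem L))
        (hfix.symm.trans (h _))
  · let L : Subgroup G := (Subgroup.zpowers u).map (D.R : Subgroup G).subtype
    let L' : Subgroup G := (Subgroup.zpowers z).map (D.R : Subgroup G).subtype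
    have hmem : ∀ (v : (D.R : Subgroup G)) (w : (D.R : Subgroup G)),
        (w : G) ∈ (Subgroup.zpowers v).map (D.R : Subgroup G).subtype ↔ w ∈ Subgroup.zpowers v :=
      fun v w => ⟨fun h => by
        obtain ⟨w', hw', e⟩ := Subgroup.mem_map.1 h
        rwa [Subtype.ext e] at hw', fun h => Subgroup.mem_map.2 ⟨w, h, rfl⟩⟩
    have hline : ∀ v : (D.R : Subgroup G), orderOf v = 3 →
        (∀ γ ∈ f.range, γ v ∈ Subgroup.zpowers v) →
        D.Line ((Subgroup.zpowers v).map (D.R : Subgroup G).subtype) := by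
      intro v hv hk
      refine ⟨Subgroup.map_subtype_le _, ?_, fun n hn y hy => ?_⟩
      · rw [Nat.card_congr ((Subgroup.zpowers v).equivMapOfInjective _
          (D.R : Subgroup G).subtype_injective).symm.toEquiv, Nat.card_zpowers, hv]
      · obtain ⟨w, hw, rfl⟩ := Subgroup.mem_map.1 hy
        show (f ⟨n, hn⟩ w : G) ∈ _
        rw [hmem]
        obtain ⟨i, rfl⟩ := hw
        show f ⟨n, hn⟩ (v ^ i) ∈ Subgroup.zpowers v
        rw [map_zpow]
        exact zpow_mem (hk _ ⟨⟨n, hn⟩, rfl⟩) i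
    have hL : D.Line L := hline u hu fun γ hγ => (hkeep γ hγ).1
    have hL' : D.Line L' := hline z hz fun γ hγ => (hkeep γ hγ).2
    refine Ctx.Shape.diagonal L L' hL hL' (fun y hy h1 h2 => hgood hy
      (fun γ hγ hfix => hstab _ (fun h => h1 ((hmem u ⟨y, hy⟩).2 h))
        (fun h => h2 ((hmem z ⟨y, hy⟩).2 h)) γ hγ hfix))
      (fun y hy h1 h2 y' hy' h1' h2' => ?_) ?_
    · obtain ⟨γ, hγ, e⟩ := htrans ⟨y, hy⟩ ⟨y', hy'⟩ (fun h => h1 ((hmem u ⟨y, hy⟩).2 h))
        (fun h => h2 ((hmem z ⟨y, hy⟩).2 h)) (fun h => h1' ((hmem u ⟨y', hy'⟩).2 h))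
        (fun h => h2' ((hmem z ⟨y', hy'⟩).2 h))
      have := hfus γ hγ ⟨y, hy⟩
      rwa [e] at this
    · refine ⟨(u * z : (D.R : Subgroup G)), (u * z).2, fun h => ?_, fun h => ?_⟩
      · exact hzu ((Subgroup.mul_mem_cancel_left _ (Subgroup.mem_zpowers u)).1 ((hmem u _).1 h))
      · have hu' := (Subgroup.mul_mem_cancel_right _ (Subgroup.mem_zpowers z)).1 ((hmem z _).1 h)
        have e : Subgroup.zpowers u = Subgroup.zpowers z := Subgroup.eq_of_le_of_card_ge
          (Subgroup.zpowers_le.2 hu') (by rw [Nat.card_zpowers, Nat.card_zpowers, hu, hz])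
        exact hzu (e ▸ Subgroup.mem_zpowers z)

end CfsgLib.NineTwoPrimes
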