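import Cfsg.Agent.Lib.NineTwoPrimes.Bound

/-!
# Simple groups of order `9 * 2^a * q^b` with three classes of three-elements
-/

set_option autoImplicit false
set_option linter.style.haveILetI false
set_option linter.unusedSectionVars false

noncomputable section

namespace CfsgLib.NineTwoPrimes

open Cfsg CfsgLib.Characters CfsgLib.ClassCount
open scoped ComplexConjugate Classical

universe u

variable {G : Type u} [Group G] [Fintype G] [IsSimpleGroup G] (hG : ¬ IsMulCommutative G)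

theorem deg_cast (χ : IrrCharacter G) : (χ : G → ℂ) 1 = (charDegree (χ : G → ℂ) : ℂ) := by
  obtain ⟨d, hd, -, -⟩ := exists_deg χ
  simp [charDegree, hd]

include hG in
/-- The order five case cannot occur. -/
theorem five_false {D : Ctx G} {L : Subgroup G} (hL : D.Line L) (T : D.Triple L)
    (hA : (T.A : G → ℂ) 1 = ((5 : ℕ) : ℂ)) (hB : (T.B : G → ℂ) 1 = ((4 : ℕ) : ℂ))
    (ha : T.a = -1) (hb : T.b = 1) : False := by
  haveI := Fintype.ofFinite (D.R : Subgroup G)
  choose f hf using fun x : G => T.intValued hG (g := x)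
  choose g hg using fun x : G => T.swap.intValued hG (g := x)
  have hg : ∀ x, (T.B : G → ℂ) x = g x := hg
  have hout : ∀ y : (D.R : Subgroup G), (y : G) ∉ L → f y ≤ -1 := by
    intro y hy
    have h := T.eq (y : G)
    have hs : (y : G) ∈ D.supp L := D.mem_supp.2 ⟨y, y.2, hy, by
      rw [D.pow_N_of_nine (D.nine_of_mem y.2)]⟩
    rw [Ctx.theta, if_pos hs, hf, hg, ha, hb] at h
    have h' : (3 : ℤ) = 1 + -1 * f y + 1 * g y := by exact_mod_cast h
    have hy1 : (y : G) ≠ 1 := fun e => hy (e ▸ one_mem L)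
    obtain ⟨-, h2⟩ := abs_lt hG T.B_ne hy1 (d := 4) hB (hg _)
    have hc := int_congr (irr_isCharacter T.A) Nat.prime_three (k := 2) (g := (y : G))
      (by norm_num; exact D.nine_of_mem y.2) (hf _) (d := 5) (by rw [hA]; norm_num)
    push_cast at hc h2
    omega
  have hin : ∀ y : (D.R : Subgroup G), (y : G) ∈ L → y ≠ 1 → f y ≤ 2 := by
    intro y _ hy1
    have hy1' : (y : G) ≠ 1 := fun e => hy1 (Subtype.ext e)
    obtain ⟨-, h2⟩ := abs_lt hG T.A_ne hy1' (d := 5) hA (hf _)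
    have hc := int_congr (irr_isCharacter T.A) Nat.prime_three (k := 2) (g := (y : G))
      (by norm_num; exact D.nine_of_mem y.2) (hf _) (d := 5) (by rw [hA]; norm_num)
    push_cast at hc h2
    omega
  have hf1 : f 1 = 5 := by
    have h := hA
    rw [hf] at h
    exact_mod_cast h
  obtain ⟨m, hm⟩ := exists_mult T.A (D.R : Subgroup G)
  rw [D.card_R, Fintype.sum_equiv (Equiv.inv (D.R : Subgroup G))
    (fun t : (D.R : Subgroup G) => (T.A : G → ℂ) ((t : G)⁻¹)) (fun t => (f t : ℂ))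
    (fun t => by show _ = (f ((t⁻¹ : (D.R : Subgroup G)) : G) : ℂ); rw [← hf]; rfl)] at hm
  have hm' : ∑ t : (D.R : Subgroup G), f t = 9 * (m : ℤ) := by exact_mod_cast hm
  -- the bound
  have hle : ∑ t : (D.R : Subgroup G), f t ≤ ∑ t : (D.R : Subgroup G),
      ((if t = 1 then 3 else 0) + (if (t : G) ∈ L then 3 else 0) + (-1 : ℤ)) := by
    refine Finset.sum_le_sum fun t _ => ?_
    by_cases h1 : t = 1
    · subst h1; simp [hf1]
    by_cases h2 : (t : G) ∈ L
    · rw [if_neg h1, if_pos h2]; have := hin t h2 h1; omega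
    · rw [if_neg h1, if_neg h2]; have := hout t h2; omega
  rw [Finset.sum_add_distrib, Finset.sum_add_distrib, Finset.sum_ite_eq', if_pos (Finset.mem_univ _),
    ← Finset.sum_filter, Finset.sum_const, Finset.sum_const, Finset.card_univ,
    ← Fintype.card_subtype, ← Nat.card_eq_fintype_card, ← Nat.card_eq_fintype_card, D.card_R,
    show Nat.card {t : (D.R : Subgroup G) // (t : G) ∈ L} = 3 from
      (Nat.card_congr (Subgroup.subgroupOfEquivOfLe hL.le).toEquiv).trans hL.card] at hle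
  simp only [nsmul_eq_mul] at hle
  push_cast at hle
  -- the sum is odd
  have hodd : ((∑ t : (D.R : Subgroup G), f t : ℤ) : ZMod 2) = 1 := by
    rw [Int.cast_sum, ← Finset.add_sum_erase _ _ (Finset.mem_univ (1 : (D.R : Subgroup G))),
      Finset.sum_involution (fun t _ => t⁻¹)]
    · rw [OneMemClass.coe_one, hf1]; decide
    · intro t _
      have h : f ((t⁻¹ : (D.R : Subgroup G)) : G) = f t := by
        have e := irr_apply_inv T.A (t : G)
        rw [hf, hf, map_intCast] at e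
        exact_mod_cast e
      rw [h]
      exact CharTwo.add_self_eq_zero _
    · intro t ht _ e
      have ht1 : (t : G) ≠ 1 := fun e' => Finset.ne_of_mem_erase ht (Subtype.ext e')
      have e' : ((t : G)) ^ 2 = 1 := by
        rw [pow_two]; exact mul_eq_one_iff_eq_inv.2 (congrArg Subtype.val e).symm
      have h9 := D.nine_of_mem t.2
      rw [show 9 = 2 * 4 + 1 from rfl, pow_succ, pow_mul, e', one_pow, one_mul] at h9
      exact ht1 h9
    · intro t ht
      exact Finset.mem_erase.2 ⟨fun e => Finset.ne_of_mem_erase ht (inv_eq_one.1 e), Finset.mem_univ _⟩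
    · intro t _
      exact inv_inv t
  rw [hm'] at hle hodd
  have hm0 : m = 0 := by omega
  rw [hm0] at hodd
  simp at hodd

/-- A number `3^k * 2^r` next to a multiple of a prime `2^j ± 1` is divisible by `2^j`. -/
theorem two_pow_dvd_of_congr {q j x r : ℕ} (hj : 5 ≤ j) (hqj : q + 1 = 2 ^ j ∨ q = 2 ^ j + 1)
    (hx : x ∣ 9) (hne : x * 2 ^ r ≠ 1)
    (h : (q : ℤ) ∣ ((x * 2 ^ r : ℕ) : ℤ) - 1 ∨ (q : ℤ) ∣ ((x * 2 ^ r : ℕ) : ℤ) + 1) : j ≤ r := by
  by_contra hlt
  push Not at hlt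
  obtain ⟨η, hη, hd⟩ : ∃ η : ℤ, (η = 1 ∨ η = -1) ∧ (q : ℤ) ∣ ((x * 2 ^ r : ℕ) : ℤ) + η := by
    rcases h with h | h
    · exact ⟨-1, Or.inr rfl, by rwa [← sub_eq_add_neg]⟩
    · exact ⟨1, Or.inl rfl, h⟩
  obtain ⟨ζ, hζ, hj2⟩ : ∃ ζ : ℤ, (ζ = 1 ∨ ζ = -1) ∧ (2 : ℤ) ^ j = q + ζ := by
    rcases hqj with e | e
    · exact ⟨1, Or.inl rfl, by exact_mod_cast e.symm⟩
    · exact ⟨-1, Or.inr rfl, by rw [e]; push_cast; ring⟩
  obtain ⟨s, hs⟩ : ∃ s, j = r + s := ⟨j - r, by omega⟩
  have h2 : (q : ℤ) ∣ ζ * x + η * 2 ^ s := by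
    have e : ζ * (x : ℤ) + η * 2 ^ s =
        (((x * 2 ^ r : ℕ) : ℤ) + η) * 2 ^ s - (q : ℤ) * x := by
      have : (2 : ℤ) ^ r * 2 ^ s = q + ζ := by rw [← pow_add, ← hs, hj2]
      push_cast
      linear_combination -(x : ℤ) * this
    rw [e]
    exact dvd_sub (dvd_mul_of_dvd_left hd _) (dvd_mul_right _ _)
  have hx9 : x ≤ 9 := Nat.le_of_dvd (by norm_num) hx
  have hxodd : ¬ 2 ∣ x := fun h => by have := h.trans hx; norm_num at this
  have hx0 : 0 < x := Nat.pos_of_ne_zero fun e => hxodd (by rw [e]; exact dvd_zero 2)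
  have h32 : 32 ≤ 2 ^ j := by
    calc 32 = 2 ^ 5 := rfl
      _ ≤ 2 ^ j := Nat.pow_le_pow_right (by norm_num) hj
  have hsj : s = j ∨ 2 * 2 ^ s ≤ 2 ^ j := by
    rcases Nat.lt_or_ge s j with h' | h'
    · exact Or.inr (by rw [← pow_succ']; exact Nat.pow_le_pow_right (by norm_num) h')
    · exact Or.inl (by omega)
  have hs2 : 2 ∣ 2 ^ s := dvd_pow_self 2 (by omega)
  have hq32 : (31 : ℤ) ≤ q := by rcases hqj with e | e <;> omega
  obtain ⟨c, hc⟩ := h2
  have hc2 : c = 0 ∨ c = 1 ∨ c = -1 := by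
    have hb : ((2 ^ s : ℕ) : ℤ) ≤ (2 ^ j : ℕ) := by
      exact_mod_cast Nat.pow_le_pow_right (show 0 < 2 by norm_num) (show s ≤ j by omega)
    push_cast at hb
    have hS0 : (0 : ℤ) < 2 ^ s := pow_pos two_pos s
    have hxZ : (x : ℤ) ≤ 9 := by exact_mod_cast hx9
    have hxZ0 : (0 : ℤ) < x := by exact_mod_cast hx0
    have h1 : c < 2 := by
      by_contra hge
      push Not at hge
      have hqc := mul_le_mul_of_nonneg_left hge (show (0 : ℤ) ≤ q by omega)
      rcases hη with rfl | rfl <;> rcases hζ with rfl | rfl <;> linarith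
    have h2 : -2 < c := by
      by_contra hge
      push Not at hge
      have hqc := mul_le_mul_of_nonneg_left hge (show (0 : ℤ) ≤ q by omega)
      rcases hη with rfl | rfl <;> rcases hζ with rfl | rfl <;> linarith
    omega
  have hj2' : ((2 ^ j : ℕ) : ℤ) = q + ζ := by push_cast; exact hj2
  have hc' : ζ * (x : ℤ) + η * ((2 ^ s : ℕ) : ℤ) = (q : ℤ) * c := by push_cast; exact hc
  rcases hsj with hsj | hsj
  · have hr : r = 0 := by omega
    rw [hr, pow_zero, mul_one] at hne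
    rw [hsj] at hc'
    generalize 2 ^ j = J at *
    rcases hc2 with rfl | rfl | rfl <;> rcases hη with rfl | rfl <;> rcases hζ with rfl | rfl <;>
      simp only [mul_zero, mul_one, mul_neg, neg_mul, one_mul] at hc' <;> omega
  · generalize 2 ^ j = J at *
    generalize 2 ^ s = S at *
    rcases hc2 with rfl | rfl | rfl <;> rcases hη with rfl | rfl <;> rcases hζ with rfl | rfl <;>
      simp only [mul_zero, mul_one, mul_neg, neg_mul, one_mul] at hc' <;> omega

include hG in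
/-- The structure of the principal `q`-block. -/
theorem block_facts {q e a : ℕ} [hq : Fact q.Prime] (hq7 : 7 ≤ q)
    (hcard : Nat.card G = 9 * 2 ^ a * q) (hed : e ∣ q - 1) (he0 : 0 < e) (B : QBlock q e G) :
    principalIrr G ∈ B.X ∧ B.εX (principalIrr G) = 1 ∧
    (∀ χ ∈ B.X, χ ≠ principalIrr G → ∃ x r : ℕ, charDegree (χ : G → ℂ) = x * 2 ^ r ∧
      x ∣ 9 ∧ 1 ≤ r ∧ ((q : ℤ) ∣ ((x * 2 ^ r : ℕ) : ℤ) - 1 ∨ (q : ℤ) ∣ ((x * 2 ^ r : ℕ) : ℤ) + 1)) ∧
    ∃ θ ∈ B.Y, ∃ D : ℕ, (θ : G → ℂ) 1 = D ∧ (D = 3 ∨ D = 9) ∧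
      ((q : ℤ) ∣ (D : ℤ) - e ∨ (q : ℤ) ∣ (D : ℤ) + e) ∧ (D : ℤ) ≡ B.ε * e [ZMOD q] ∧
      B.ε * (D : ℤ) = 1 + ∑ χ ∈ B.X.erase (principalIrr G), B.εX χ * (charDegree (χ : G → ℂ) : ℤ) := by
  have hqZ : (q : ℤ) ≠ 0 := by exact_mod_cast hq.out.ne_zero
  have heven : ∀ χ ∈ B.X, χ ≠ principalIrr G → ∃ x r : ℕ, charDegree (χ : G → ℂ) = x * 2 ^ r ∧
      x ∣ 9 ∧ 1 ≤ r ∧
      ((q : ℤ) ∣ ((x * 2 ^ r : ℕ) : ℤ) - 1 ∨ (q : ℤ) ∣ ((x * 2 ^ r : ℕ) : ℤ) + 1) := by
    intro χ hχ hne
    obtain ⟨d, hd, -, hdd⟩ := exists_deg χ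
    have hdeg : charDegree (χ : G → ℂ) = d := by simp [charDegree, hd]
    have h1 : (q : ℤ) ∣ (d : ℤ) - 1 ∨ (q : ℤ) ∣ (d : ℤ) + 1 := by
      have h := (B.deg_X χ hχ)
      rw [hdeg] at h
      have h' := Int.ModEq.dvd h.symm
      rcases B.sign χ hχ with e' | e' <;> rw [e'] at h'
      · exact Or.inl h'
      · exact Or.inr (by rwa [sub_neg_eq_add] at h')
    have hqd : ¬ q ∣ d := by
      intro hh
      have hh' : (q : ℤ) ∣ (d : ℤ) := Int.natCast_dvd_natCast.2 hh
      rcases h1 with h | h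
      · have := Int.le_of_dvd one_pos ((dvd_sub_right hh').1 h); omega
      · have := Int.le_of_dvd one_pos ((dvd_add_right hh').1 h); omega
    rw [hcard] at hdd
    obtain ⟨x, z, hx, hz, hxz⟩ := Nat.dvd_mul.1
      ((hq.out.coprime_iff_not_dvd.2 hqd).symm.dvd_of_dvd_mul_right hdd)
    obtain ⟨r, -, rfl⟩ := (Nat.dvd_prime_pow Nat.prime_two).1 hz
    refine ⟨x, r, hdeg.trans hxz.symm, hx, ?_, hxz ▸ h1⟩
    by_contra hr
    have hr0 : r = 0 := by omega
    rw [hr0, pow_zero, mul_one] at hxz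
    have hd1 := one_lt_degree hG hne hd
    have hd9 : d ≤ 9 := hxz ▸ Nat.le_of_dvd (by norm_num) hx
    rw [hxz] at hx
    rcases h1 with h | h
    · have := Int.le_of_dvd (by omega) h
      interval_cases d <;> first
        | omega
        | (exfalso; revert hx; decide)
        | (have h8 : q ∣ 8 := Int.natCast_dvd_natCast.1 (by norm_num at h ⊢; exact h)
           have := Nat.le_of_dvd (by norm_num) h8
           have := hq.out
           interval_cases q <;> simp_all (config := { decide := true }))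
    · have := Int.le_of_dvd (by omega) h
      interval_cases d <;> first
        | omega
        | (exfalso; revert hx; decide)
        | (have h10 : q ∣ 10 := Int.natCast_dvd_natCast.1 (by norm_num at h ⊢; exact h)
           have := Nat.le_of_dvd (by norm_num) h10
           have := hq.out
           interval_cases q <;> simp_all (config := { decide := true }))
  have hYne : B.Y.Nonempty := Finset.card_pos.1 (by
    rw [B.card_Y]
    exact Nat.div_pos (Nat.le_of_dvd (by omega) hed) he0)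
  have h1reg : ¬ q ∣ orderOf (1 : G) := by rw [orderOf_one]; exact hq.out.not_dvd_one
  have hrel1 : ∀ θ ∈ B.Y, B.ε * (charDegree (θ : G → ℂ) : ℤ) =
      ∑ χ ∈ B.X, B.εX χ * (charDegree (χ : G → ℂ) : ℤ) := by
    intro θ hθ
    have h := B.rel θ hθ 1 h1reg
    simp only [deg_cast] at h
    exact_mod_cast h
  have hsum2 : ∀ s : Finset (IrrCharacter G), s ⊆ B.X → principalIrr G ∉ s →
      (2 : ℤ) ∣ ∑ χ ∈ s, B.εX χ * (charDegree (χ : G → ℂ) : ℤ) := by
    intro s hs hs1
    refine Finset.dvd_sum fun χ hχ => dvd_mul_of_dvd_right ?_ _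
    obtain ⟨x, r, hdeg, -, hr, -⟩ := heven χ (hs hχ) fun e => hs1 (e ▸ hχ)
    rw [hdeg]
    exact Int.natCast_dvd_natCast.2 (dvd_mul_of_dvd_right (dvd_pow_self 2 (by omega)) x)
  have hone : charDegree ((principalIrr G : IrrCharacter G) : G → ℂ) = 1 := by
    simp [charDegree, principalIrr]
  have hX : principalIrr G ∈ B.X := by
    refine B.principal.resolve_right fun hY => ?_
    have hnX : principalIrr G ∉ B.X := fun h => Finset.disjoint_left.1 B.disjoint h hY
    have h := hrel1 _ hY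
    have h2 := hsum2 _ subset_rfl hnX
    rw [← h, hone] at h2
    rcases B.ε_sign with e' | e' <;> rw [e'] at h2 <;> norm_num at h2
  have hε1 : B.εX (principalIrr G) = 1 := by
    obtain ⟨g, hg⟩ := exists_prime_orderOf_dvd_card' q (show q ∣ Nat.card G from hcard ▸ dvd_mul_left q _)
    have h := B.sing _ hX g (by rw [hg])
    rw [principalIrr_apply] at h
    exact_mod_cast h.symm
  refine ⟨hX, hε1, heven, ?_⟩
  obtain ⟨θ, hθ⟩ := hYne
  obtain ⟨d, hd, -, hdd⟩ := exists_deg θ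
  have hdeg : charDegree (θ : G → ℂ) = d := by simp [charDegree, hd]
  have hθne : θ ≠ principalIrr G := fun e' => Finset.disjoint_left.1 B.disjoint hX (e' ▸ hθ)
  have hrel : B.ε * (d : ℤ) =
      1 + ∑ χ ∈ B.X.erase (principalIrr G), B.εX χ * (charDegree (χ : G → ℂ) : ℤ) := by
    rw [← hdeg, hrel1 θ hθ, ← Finset.add_sum_erase _ _ hX, hε1, hone]
    norm_num
  have hmod : (d : ℤ) ≡ B.ε * e [ZMOD q] := hdeg ▸ B.deg_Y θ hθ
  have h1 : (q : ℤ) ∣ (d : ℤ) - e ∨ (q : ℤ) ∣ (d : ℤ) + e := by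
    have h' := Int.ModEq.dvd hmod.symm
    rcases B.ε_sign with e' | e' <;> rw [e'] at h'
    · exact Or.inl (by simpa using h')
    · exact Or.inr (by simpa using h')
  have hodd : ¬ (2 : ℤ) ∣ (d : ℤ) := by
    intro h2
    have hs := hsum2 (B.X.erase (principalIrr G)) (Finset.erase_subset _ _) (Finset.notMem_erase _ _)
    have := dvd_sub (hrel ▸ dvd_mul_of_dvd_right h2 B.ε) hs
    rw [add_sub_cancel_right] at this
    norm_num at this
  have hqd : ¬ q ∣ d := by
    intro hh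
    have hh' : (q : ℤ) ∣ (d : ℤ) := Int.natCast_dvd_natCast.2 hh
    have he : (q : ℤ) ∣ (e : ℤ) := by
      rcases h1 with h | h
      · exact (dvd_sub_right hh').1 h
      · exact (dvd_add_right hh').1 h
    have := Nat.le_of_dvd he0 (Int.natCast_dvd_natCast.1 he)
    have := Nat.le_of_dvd (by omega) hed
    omega
  rw [hcard] at hdd
  obtain ⟨x, z, hx, hz, hxz⟩ := Nat.dvd_mul.1
    ((hq.out.coprime_iff_not_dvd.2 hqd).symm.dvd_of_dvd_mul_right hdd)
  obtain ⟨r, -, rfl⟩ := (Nat.dvd_prime_pow Nat.prime_two).1 hz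
  have hr : r = 0 := by
    by_contra hr
    exact hodd (by
      rw [← hxz]
      exact Int.natCast_dvd_natCast.2 (dvd_mul_of_dvd_right (dvd_pow_self 2 hr) x))
  subst hr
  rw [pow_zero, mul_one] at hxz
  subst hxz
  have hd1 := one_lt_degree hG hθne hd
  refine ⟨θ, hθ, x, hd, ?_, h1, hmod, hrel⟩
  have := Nat.le_of_dvd (by norm_num) hx
  interval_cases x <;> simp_all (config := { decide := true })

include hG in
/-- Conjugate elements of order `q` generate conjugates of the Sylow subgroup. -/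
theorem exists_conj_zpowers {q : ℕ} [hq : Fact q.Prime] (Q : Sylow q G) (hQ : Nat.card Q = q)
    (hC : Subgroup.centralizer ((Q : Subgroup G) : Set G) = (Q : Subgroup G))
    {z w : G} (hz : q ∣ orderOf z) (hw : q ∣ orderOf w) :
    orderOf z = q ∧ ∃ i : ℕ, ¬ q ∣ i ∧ IsConj w (z ^ i) := by
  obtain ⟨c, hc, hc1⟩ := CfsgLib.PermPrime.exists_conj_mem Q hQ hC hz
  obtain ⟨c', hc', hc1'⟩ := CfsgLib.PermPrime.exists_conj_mem Q hQ hC hw
  have ho := CfsgLib.PermPrime.dvd_orderOf_of_mem Q hQ hc hc1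
  have hoz : orderOf z = q := by rwa [← MulAut.conj_apply, MulEquiv.orderOf_eq] at ho
  refine ⟨hoz, ?_⟩
  rw [← CfsgLib.CyclicDefect.zpowers_eq Q ho hc hQ, ← mem_powers_iff_mem_zpowers] at hc'
  obtain ⟨i, hi⟩ := hc'
  have hi : (c * z * c⁻¹) ^ i = c' * w * c'⁻¹ := hi
  refine ⟨i, fun hd => hc1' ?_, isConj_iff.2 ⟨c⁻¹ * c', ?_⟩⟩
  · rw [← hi, ← orderOf_dvd_iff_pow_eq_one, ho]; exact hd
  · rw [mul_inv_rev, inv_inv, show c⁻¹ * c' * w * (c'⁻¹ * c) = c⁻¹ * (c' * w * c'⁻¹) * c by group,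
      ← hi, conj_pow]
    group

theorem charDegree_eq {χ : IrrCharacter G} {d : ℕ} (h : (χ : G → ℂ) 1 = (d : ℂ)) :
    charDegree (χ : G → ℂ) = d := by simp [charDegree, h]

theorem sum_supp {D : Ctx G} {L : Subgroup G} (T : D.Triple L) (χ : IrrCharacter G) :
    3 * ∑ x ∈ D.supp L, (χ : G → ℂ) x⁻¹ = (Nat.card G : ℂ) *
      ((if χ = principalIrr G then 1 else 0) + (if χ = T.A then (T.a : ℂ) else 0) +
        (if χ = T.B then (T.b : ℂ) else 0)) := by
  rw [← T.coef χ, classInner, ← mul_assoc, mul_inv_cancel₀ (Nat.cast_ne_zero.2 Nat.card_pos.ne'),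
    one_mul, Finset.mul_sum]
  simp only [Ctx.theta, ite_mul, zero_mul]
  rw [Finset.sum_ite_mem, Finset.univ_inter]
  exact Finset.sum_congr rfl fun x _ => by rw [irr_apply_inv]

theorem sum_inv_eq_zero {χ : IrrCharacter G} (hne : χ ≠ principalIrr G) :
    ∑ x : G, (χ : G → ℂ) x⁻¹ = 0 := by
  have h := classInner_irr (principalIrr G) χ
  rw [if_neg hne.symm, classInner, mul_eq_zero] at h
  rcases h with h | h
  · exact absurd h (inv_ne_zero (Nat.cast_ne_zero.2 Nat.card_pos.ne'))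
  · rw [← h]
    exact Finset.sum_congr rfl fun x _ => by rw [principalIrr_apply, one_mul, irr_apply_inv]

include hG in
/-- The case `q = 17`. -/
theorem seventeen {D : Ctx G} {L : Subgroup G} (T : D.Triple L) {a n : ℕ} (ha : 1 ≤ a)
    [hq : Fact (Nat.Prime 17)] (hcard : Nat.card G = 9 * 2 ^ a * 17)
    (Q : Sylow 17 G) (hQ : Nat.card Q = 17)
    (hC : ∀ u ∈ (Q : Subgroup G), u ≠ 1 → Subgroup.centralizer ({u} : Set G) = (Q : Subgroup G))
    (hA : (T.A : G → ℂ) 1 = ((17 : ℕ) : ℂ)) (hB : (T.B : G → ℂ) 1 = ((2 ^ 4 : ℕ) : ℂ))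
    (hTa : T.a = -1) {E : IrrCharacter G} (hE : (E : G → ℂ) 1 = 9)
    (hEint : ∀ g : G, ¬ 17 ∣ orderOf g → ∃ z : ℤ, (E : G → ℂ) g = z)
    (hn : 8 * n = 9 * 2 ^ a) (hn1 : n % 17 = 1) : a = 4 := by
  suffices ha10 : a ≤ 10 by interval_cases a <;> omega
  have hm : D.m = 2 ^ a * 17 := by
    have := D.card_G
    rw [hcard, mul_assoc] at this
    omega
  obtain ⟨t, ht, hc, hodd⟩ := exists_central_involution (G := G) (a := a) (M := 153)
    (by rw [hcard]; ring) (by norm_num) ha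
  set c := Nat.card (Subgroup.centralizer ({t} : Set G)) with hcdef
  have ht1 : t ≠ 1 := fun e => by rw [e, orderOf_one] at ht; norm_num at ht
  have htt : t * t = 1 := by rw [← pow_two, ← ht, pow_orderOf_eq_one]
  have hts : t ∉ D.supp L := by
    intro h
    obtain ⟨y, -, hyL, hy⟩ := D.mem_supp.1 h
    rw [D.pow_N_of_m (orderOf_dvd_iff_pow_eq_one.1 (ht ▸ hm ▸ dvd_mul_of_dvd_left
      (dvd_pow_self 2 (by omega)) 17))] at hy
    exact hyL (isConj_one_left.1 hy ▸ one_mem L)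
  have hBt : (T.B : G → ℂ) t = 0 :=
    eq_zero_of_coprime hG T.B_ne ht1 hB ((Nat.prime_two.coprime_iff_not_dvd.2 hodd).pow_left 4)
  have hAt : (T.A : G → ℂ) t = 1 := by
    have h := T.eq t
    rw [Ctx.theta, if_neg hts, hBt, hTa] at h
    push_cast at h
    linear_combination h
  have hcofA : cofDegree T.A = 9 * 2 ^ a := by
    rw [cofDegree, charDegree_eq hA, hcard, Nat.mul_div_cancel _ (by norm_num)]
  have hcof1 : cofDegree (principalIrr G : IrrCharacter G) = Nat.card G := by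
    rw [cofDegree, charDegree_eq (d := 1) (by rw [principalIrr_apply, Nat.cast_one]), Nat.div_one]
  set P := (pairs t t (D.supp L)).card with hPdef
  have hcount : P * c * c = 48 * 2 ^ a * Nat.card G := by
    have h := card_pairs_mul_centralizers t t (D.supp L)
    have h3 : (3 : ℂ) * ((P : ℂ) * c * c) = (Nat.card G : ℂ) *
        ((cofDegree (principalIrr G : IrrCharacter G) : ℂ) - (cofDegree T.A : ℂ)) := by
      rw [hPdef, hcdef, h, Finset.mul_sum, Finset.sum_congr rfl (g := fun χ : IrrCharacter G =>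
        (if χ = principalIrr G then (Nat.card G : ℂ) * cofDegree χ * (χ : G → ℂ) t ^ 2 else 0) +
        (if χ = T.A then (Nat.card G : ℂ) * cofDegree χ * (χ : G → ℂ) t ^ 2 * T.a else 0) +
        (if χ = T.B then (Nat.card G : ℂ) * cofDegree χ * (χ : G → ℂ) t ^ 2 * T.b else 0))
        (fun χ _ => by
          rw [show (3 : ℂ) * ((cofDegree χ : ℂ) * ((χ : G → ℂ) t * (χ : G → ℂ) t *
              ∑ x ∈ D.supp L, (χ : G → ℂ) x⁻¹)) = (cofDegree χ : ℂ) * (χ : G → ℂ) t ^ 2 *
              (3 * ∑ x ∈ D.supp L, (χ : G → ℂ) x⁻¹) by ring, sum_supp T χ]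
          split_ifs <;> ring)]
      simp only [Finset.sum_add_distrib, Finset.sum_ite_eq', Finset.mem_univ, if_true,
        principalIrr_apply, hAt, hBt, hTa]
      push_cast
      ring
    rw [hcofA, hcof1, hcard] at h3
    have h4 : (3 : ℂ) * ((P * c * c : ℕ) : ℂ) = 3 * ((48 * 2 ^ a * (9 * 2 ^ a * 17) : ℕ) : ℂ) := by
      push_cast at h3 ⊢
      linear_combination h3
    rw [hcard]
    exact_mod_cast mul_left_cancel₀ (by norm_num) h4
  have hG0 : 0 < Nat.card G := Nat.card_pos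
  have hP0 : P ≠ 0 := fun h => by
    rw [h, zero_mul, zero_mul] at hcount
    have : 0 < 48 * 2 ^ a * Nat.card G := by positivity
    omega
  obtain ⟨⟨x, x'⟩, hx⟩ := Finset.card_pos.1 (Nat.pos_of_ne_zero hP0)
  simp only [pairs, Finset.mem_filter, Finset.mem_product] at hx
  obtain ⟨⟨hx1, hx2⟩, hz⟩ := hx
  set z := x * x' with hzdef
  obtain ⟨y, -, hyL, hy⟩ := D.mem_supp.1 hz
  have hy1 : z ^ D.N ≠ 1 := by
    intro e
    rw [e] at hy
    exact hyL (isConj_one_left.1 hy ▸ one_mem L)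
  have hy9 := D.pow_N_nine z
  have hinv : x * z ^ D.N * x⁻¹ = (z ^ D.N)⁻¹ := by
    rw [← conj_pow, inverts_product htt hx1 hx2, inv_pow]
  have hodd' : Odd (orderOf (z ^ D.N)) :=
    Odd.of_dvd_nat (by decide : Odd 9) (orderOf_dvd_of_pow_eq_one hy9)
  have hge : 3 ≤ orderOf (z ^ D.N) := by
    obtain ⟨k, hk⟩ := hodd'
    rcases Nat.eq_zero_or_pos k with rfl | hk0
    · exact absurd (orderOf_eq_one_iff.1 (by omega)) hy1
    · omega
  have h3 : 3 ≤ (pairs t t {z}).card := hge.trans (orderOf_le_card_pairs htt hx1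
    (by rwa [hzdef, ← mul_assoc, mul_self_of_mem_cls htt hx1, one_mul]) hinv
    (Commute.pow_self z D.N) hodd')
  have hsub : cls z ⊆ D.supp L := by
    intro w hw
    obtain ⟨g, rfl⟩ := isConj_iff.1 (mem_cls.1 hw)
    obtain ⟨y', hy', hy'L, hy''⟩ := D.mem_supp.1 hz
    exact D.mem_supp.2 ⟨y', hy', hy'L, hy''.trans (by
      rw [D.conj_pow_N]; exact isConj_iff.2 ⟨g, rfl⟩)⟩
  have hcz : 3 * (cls z).card ≤ P := by
    rw [hPdef, card_pairs_eq_sum]
    refine le_trans ?_ (Finset.sum_le_sum_of_subset hsub)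
    rw [Finset.sum_congr rfl (fun w hw => card_pairs_conj (mem_cls.1 hw)), Finset.sum_const,
      smul_eq_mul, mul_comm]
    exact Nat.mul_le_mul_left _ h3
  have h72 : Nat.card (Subgroup.centralizer ({z} : Set G)) ≤ 72 := by
    refine le_trans (Subgroup.card_le_of_le fun g hg => ?_)
      (centralizer_le_72 (a := a) (by norm_num) hcard hG Q hQ hC hE hEint hy9 hy1)
    rw [Subgroup.mem_centralizer_singleton_iff] at hg ⊢
    exact (Commute.pow_right hg D.N).eq
  have hcls := card_cls_mul_centralizer z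
  have hle : 3 * Nat.card G ≤ P * 72 := by
    calc 3 * Nat.card G = 3 * (cls z).card * Nat.card (Subgroup.centralizer ({z} : Set G)) := by
          rw [← hcls]; ring
      _ ≤ P * 72 := Nat.mul_le_mul hcz h72
  have hpow : 0 < 2 ^ a := by positivity
  have hc0 : 0 < c := Nat.card_pos
  have hca : 2 ^ a ≤ c := Nat.le_of_dvd hc0 hc
  have hmain : c * c ≤ 1152 * 2 ^ a := by
    have : 3 * Nat.card G * (c * c) ≤ 3 * Nat.card G * (1152 * 2 ^ a) := by
      calc 3 * Nat.card G * (c * c) ≤ P * 72 * (c * c) := Nat.mul_le_mul_right _ hle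
        _ = P * c * c * 72 := by ring
        _ = 3 * Nat.card G * (1152 * 2 ^ a) := by rw [hcount]; ring
    exact Nat.le_of_mul_le_mul_left this (by positivity)
  have h2a : 2 ^ a ≤ 1152 :=
    Nat.le_of_mul_le_mul_right (le_trans (Nat.mul_le_mul hca hca) hmain) hpow
  by_contra h
  have : 2 ^ 11 ≤ 2 ^ a := Nat.pow_le_pow_right (by norm_num) (by omega)
  norm_num at this
  omega

include hG in
/-- The case `q = 7`. -/
theorem seven {a n : ℕ} (ha : 1 ≤ a) [hq : Fact (Nat.Prime 7)]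
    (hcard : Nat.card G = 9 * 2 ^ a * 7) (Q : Sylow 7 G) (hQ : Nat.card Q = 7)
    (hC : Subgroup.centralizer ((Q : Subgroup G) : Set G) = (Q : Subgroup G))
    (B : QBlock 7 2 G) {f : IrrCharacter G} (hX : principalIrr G ∈ B.X)
    (hX1 : B.εX (principalIrr G) = 1) (hf : B.X.erase (principalIrr G) = {f})
    (hfd : (f : G → ℂ) 1 = ((2 ^ 3 : ℕ) : ℂ)) (hfe : B.εX f = 1) (hε : B.ε = 1)
    (hn : n = Nat.card (Sylow 7 G)) (hn2 : 2 * n = 9 * 2 ^ a) (hn1 : n % 7 = 1) : a = 3 := by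
  suffices ha3 : a ≤ 3 by interval_cases a <;> omega
  obtain ⟨t, ht, hc, hodd⟩ := exists_central_involution (G := G) (a := a) (M := 63)
    (by rw [hcard]; ring) (by norm_num) ha
  set c := Nat.card (Subgroup.centralizer ({t} : Set G)) with hcdef
  have ht1 : t ≠ 1 := fun e => by rw [e, orderOf_one] at ht; norm_num at ht
  have htt : t * t = 1 := by rw [← pow_two, ← ht, pow_orderOf_eq_one]
  have hfX : f ∈ B.X.erase (principalIrr G) := hf ▸ Finset.mem_singleton_self f
  have hf0 : f ≠ principalIrr G := Finset.ne_of_mem_erase hfX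
  have hft : (f : G → ℂ) t = 0 :=
    eq_zero_of_coprime hG hf0 ht1 hfd ((Nat.prime_two.coprime_iff_not_dvd.2 hodd).pow_left 3)
  have hsumX : ∀ φ : IrrCharacter G → ℂ, ∑ χ ∈ B.X, φ χ = φ (principalIrr G) + φ f := fun φ => by
    rw [← Finset.add_sum_erase _ _ hX, hf, Finset.sum_singleton]
  have hrel : ∀ θ ∈ B.Y, ∀ g : G, ¬ 7 ∣ orderOf g → (θ : G → ℂ) g = 1 + (f : G → ℂ) g := by
    intro θ hθ g hg
    have h := B.rel θ hθ g hg
    rwa [hsumX, hX1, hfe, hε, principalIrr_apply, Int.cast_one, one_mul, one_mul, one_mul] at h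
  set S := Finset.univ.filter fun g : G => 7 ∣ orderOf g with hS
  have hScard : S.card = 27 * 2 ^ a := by
    rw [hS, CfsgLib.PermPrime.card_singular Q hQ hC, ← hn]
    omega
  have hsing : ∀ χ ∈ B.X, ∀ x ∈ S, (χ : G → ℂ) x⁻¹ = B.εX χ := fun χ hχ x hx =>
    B.sing χ hχ x⁻¹ (by rw [orderOf_inv]; exact (Finset.mem_filter.1 hx).2)
  have hSX : ∀ χ ∈ B.X, ∑ x ∈ S, (χ : G → ℂ) x⁻¹ = (S.card : ℂ) * B.εX χ := fun χ hχ => by
    rw [Finset.sum_congr rfl (hsing χ hχ), Finset.sum_const, nsmul_eq_mul]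
  have hS0 : ∀ χ, χ ∉ B.X → χ ∉ B.Y → ∑ x ∈ S, (χ : G → ℂ) x⁻¹ = 0 := fun χ h1 h2 =>
    Finset.sum_eq_zero fun x hx =>
      B.vanish χ h1 h2 x⁻¹ (by rw [orderOf_inv]; exact (Finset.mem_filter.1 hx).2)
  have hSY : ∀ θ ∈ B.Y, ∑ x ∈ S, (θ : G → ℂ) x⁻¹ = 2 * (S.card : ℂ) - Nat.card G := by
    intro θ hθ
    have hθ0 : θ ≠ principalIrr G := fun e => Finset.disjoint_left.1 B.disjoint hX (e ▸ hθ)
    have h := sum_inv_eq_zero hθ0
    rw [← Finset.sum_filter_add_sum_filter_not Finset.univ (fun g : G => 7 ∣ orderOf g),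
      Finset.sum_congr (s₂ := Finset.univ.filter fun g : G => ¬ 7 ∣ orderOf g)
        (g := fun g => 1 + (f : G → ℂ) g⁻¹) rfl (fun g hg => hrel θ hθ g⁻¹ (by
          rw [orderOf_inv]; exact (Finset.mem_filter.1 hg).2)),
      Finset.sum_add_distrib, Finset.sum_const, nsmul_one] at h
    have h2 := sum_inv_eq_zero hf0
    rw [← Finset.sum_filter_add_sum_filter_not Finset.univ (fun g : G => 7 ∣ orderOf g),
      ← hS, hSX f (Finset.mem_of_mem_erase hfX), hfe, Int.cast_one, mul_one] at h2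
    have h3 := Finset.card_filter_add_card_filter_not
      (s := (Finset.univ : Finset G)) (fun g : G => 7 ∣ orderOf g)
    rw [← hS, Finset.card_univ, ← Nat.card_eq_fintype_card] at h3
    rw [← hS] at h
    rw [← h3]
    push_cast
    linear_combination h - h2
  have hdegY : ∀ θ ∈ B.Y, charDegree (θ : G → ℂ) = 9 := by
    intro θ hθ
    refine charDegree_eq ?_
    rw [hrel θ hθ 1 (by rw [orderOf_one]; norm_num), hfd]
    norm_num
  set P := (pairs t t S).card with hPdef
  have hcount : P * c * c = 24 * 2 ^ a * Nat.card G := by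
    have h : (P : ℂ) * c * c = _ := card_pairs_mul_centralizers t t S
    rw [← Finset.sum_subset (Finset.subset_univ (B.X ∪ B.Y)) (fun χ _ hχ => by
      rw [Finset.mem_union, not_or] at hχ
      rw [hS0 χ hχ.1 hχ.2, mul_zero, mul_zero]), Finset.sum_union B.disjoint, hsumX,
      principalIrr_apply, hSX _ hX, hX1, hft,
      Finset.sum_congr (s₁ := B.Y) rfl (g := fun _ : IrrCharacter G => ((7 * 2 ^ a : ℕ) : ℂ) * (2 * (S.card : ℂ) - Nat.card G))
        (fun θ hθ => by
          rw [hSY θ hθ, hrel θ hθ t (by rw [ht]; norm_num), hft, add_zero, one_mul, one_mul,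
            show cofDegree θ = 7 * 2 ^ a from by
              rw [cofDegree, hdegY θ hθ, hcard, show 9 * 2 ^ a * 7 = 7 * 2 ^ a * 9 by ring,
                Nat.mul_div_cancel _ (by norm_num)]]),
      Finset.sum_const, B.card_Y, nsmul_eq_mul, hScard, cofDegree,
      charDegree_eq (d := 1) (by rw [principalIrr_apply, Nat.cast_one]), Nat.div_one, hcard] at h
    have h' : ((P * c * c : ℕ) : ℂ) = ((24 * 2 ^ a * (9 * 2 ^ a * 7) : ℕ) : ℂ) := by
      norm_num at h ⊢
      linear_combination h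
    rw [hcard]
    exact_mod_cast h'
  have hG0 : 0 < Nat.card G := Nat.card_pos
  have hP0 : P ≠ 0 := fun h => by
    rw [h, zero_mul, zero_mul] at hcount
    have : 0 < 24 * 2 ^ a * Nat.card G := by positivity
    omega
  obtain ⟨⟨x, x'⟩, hx⟩ := Finset.card_pos.1 (Nat.pos_of_ne_zero hP0)
  simp only [pairs, Finset.mem_filter, Finset.mem_product] at hx
  obtain ⟨⟨hx1, hx2⟩, hz⟩ := hx
  set z := x * x' with hzdef
  have hinv : x * z * x⁻¹ = z⁻¹ := inverts_product htt hx1 hx2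
  have hzS : 7 ∣ orderOf z := (Finset.mem_filter.1 hz).2
  have hge : ∀ w ∈ S, 7 ≤ (pairs t t {w}).card := by
    intro w hw
    obtain ⟨hoz, i, -, hconj⟩ :=
      exists_conj_zpowers hG Q hQ hC hzS (Finset.mem_filter.1 hw).2
    rw [← card_pairs_conj hconj]
    refine hoz.ge.trans (orderOf_le_card_pairs htt hx1 ?_ hinv (Commute.self_pow z i)
      (by rw [hoz]; decide))
    set v := z ^ (4 * i) with hv
    have hw2 : v * v = z ^ i := by
      rw [hv, ← pow_add, show 4 * i + 4 * i = orderOf z * i + i by rw [hoz]; ring, pow_add, pow_mul,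
        pow_orderOf_eq_one, one_pow, one_mul]
    have hxv : x * v = v⁻¹ * x := by
      rw [← mul_inv_eq_iff_eq_mul, hv, ← conj_pow, hinv, inv_pow]
    rw [← hw2, ← mul_assoc, hxv]
    exact mem_cls.2 ((mem_cls.1 hx1).trans (isConj_iff.2 ⟨v⁻¹, by rw [inv_inv]⟩))
  have hle : 189 * 2 ^ a ≤ P := by
    rw [hPdef, card_pairs_eq_sum]
    refine le_trans ?_ (Finset.card_nsmul_le_sum S _ 7 hge)
    rw [hScard, smul_eq_mul]
    omega
  have hpow : 0 < 2 ^ a := by positivity
  have hc0 : 0 < c := Nat.card_pos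
  have hca : 2 ^ a ≤ c := Nat.le_of_dvd hc0 hc
  have hmain : c * c ≤ 8 * 2 ^ a := by
    have : 189 * 2 ^ a * (c * c) ≤ 189 * 2 ^ a * (8 * 2 ^ a) := by
      calc 189 * 2 ^ a * (c * c) ≤ P * (c * c) := Nat.mul_le_mul_right _ hle
        _ = P * c * c := by ring
        _ = 189 * 2 ^ a * (8 * 2 ^ a) := by rw [hcount, hcard]; ring
    exact Nat.le_of_mul_le_mul_left this (by positivity)
  have h2a : 2 ^ a ≤ 8 :=
    Nat.le_of_mul_le_mul_right (le_trans (Nat.mul_le_mul hca hca) hmain) hpow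
  by_contra h
  have : 2 ^ 4 ≤ 2 ^ a := Nat.pow_le_pow_right (by norm_num) (by omega)
  omega

include hG in
/-- A simple group of order `9 * 2^a * q^b` with three classes of three-elements has order
`504` or `2448`. -/
theorem card_eq (q a b : ℕ) (hq : q.Prime) (hq2 : q ≠ 2) (hq3 : q ≠ 3)
    (hcard : Nat.card G = 9 * 2 ^ a * q ^ b)
    (h3 : 3 ≤ Nat.card {C : ConjClasses G // ∃ g ∈ C.carrier, g ≠ 1 ∧ orderOf g ∣ 9}) :
    Nat.card G = 504 ∨ Nat.card G = 2448 := by
  have hns : ¬ Group.IsSolvable G := fun h =>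
    hG ⟨⟨IsSimpleGroup.comm_iff_isSolvable.2 h⟩⟩
  have hb : 1 ≤ b := Nat.pos_of_ne_zero fun hb => hns (CfsgLib.Burnside.isSolvable_of_card_eq
    Nat.prime_three Nat.prime_two 2 a (by rw [hcard, hb, pow_zero, mul_one]; norm_num))
  have ha : 1 ≤ a := Nat.pos_of_ne_zero fun ha => hns (CfsgLib.Burnside.isSolvable_of_card_eq
    Nat.prime_three hq 2 b (by rw [hcard, ha, pow_zero, mul_one]; norm_num))
  have hco : ¬ 3 ∣ 2 ^ a * q ^ b := by
    intro h
    rcases Nat.prime_three.dvd_mul.1 h with h | h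
    · have := Nat.prime_three.dvd_of_dvd_pow h
      norm_num at this
    · exact hq3 ((Nat.prime_dvd_prime_iff_eq Nat.prime_three hq).1
        (Nat.prime_three.dvd_of_dvd_pow h)).symm
  obtain ⟨D, -, hinv, hshape⟩ := exists_local hG (m := 2 ^ a * q ^ b) (by rw [hcard]; ring) hco h3
  obtain ⟨L, L', hL, -, -, -, T0, hT0⟩ := D.exists_coprime_triple hG hinv hshape
  have hq5 : 5 ≤ q := hq.five_le_of_ne_two_of_ne_three hq2 hq3
  obtain ⟨T, j, hA, hB, hsign⟩ := exists_prime_degree hG hT0 hq hq5 hcard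
  obtain rfl : b = 1 := exponent_eq_one hG T.A_ne (T.intValued hG) hq hq5 hA hcard hb
  rw [pow_one] at hcard
  haveI : Fact q.Prime := ⟨hq⟩
  obtain ⟨Q⟩ : Nonempty (Sylow q G) := inferInstance
  haveI : Nontrivial G := inferInstance
  have hQ : Nat.card (Q : Subgroup G) = q := by
    obtain ⟨g, hg⟩ : ∃ g : G, g ≠ 1 := exists_ne 1
    rw [Sylow.card_eq_multiplicity, hcard, Nat.factorization_mul (by positivity) hq.ne_zero,
      Finsupp.add_apply, hq.factorization_self, Nat.factorization_eq_zero_of_not_dvd, zero_add,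
      pow_one]
    intro h
    rcases hq.dvd_mul.1 h with h | h
    · exact hq3 ((Nat.prime_dvd_prime_iff_eq hq Nat.prime_three).1
        (hq.dvd_of_dvd_pow (show q ∣ 3 ^ 2 from h)))
    · exact hq2 ((Nat.prime_dvd_prime_iff_eq hq Nat.prime_two).1 (hq.dvd_of_dvd_pow h))
  have hC1 : ∀ u ∈ (Q : Subgroup G), u ≠ 1 →
      Subgroup.centralizer ({u} : Set G) = (Q : Subgroup G) := fun u hu hu1 =>
    (centralizer_le hG T.A_ne hq5 hA hcard Q hu hu1).2
  haveI : Nontrivial (Q : Subgroup G) :=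
    Finite.one_lt_card_iff_nontrivial.1 (by rw [hQ]; exact hq.one_lt)
  obtain ⟨⟨u, hu⟩, hu1⟩ := exists_ne (1 : (Q : Subgroup G))
  have hu1 : u ≠ 1 := fun e => hu1 (Subtype.ext e)
  have hC : Subgroup.centralizer ((Q : Subgroup G) : Set G) = (Q : Subgroup G) := by
    refine le_antisymm ?_ ?_
    · exact (Subgroup.centralizer_le (Set.singleton_subset_iff.2 hu)).trans (hC1 u hu hu1).le
    · intro x hx
      rw [Subgroup.mem_centralizer_iff]
      intro y hy
      by_cases hy1 : y = 1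
      · simp [hy1]
      rw [← hC1 y hy hy1, Subgroup.mem_centralizer_singleton_iff] at hx
      exact hx.symm
  set f := (Q : Subgroup G).normalizerMonoidHom with hf
  set e := Nat.card f.range with he
  have hN : Nat.card (Subgroup.normalizer ((Q : Subgroup G) : Set G)) = q * e := by
    rw [← Subgroup.card_mul_index f.ker, Subgroup.index_ker, he]
    congr 1
    rw [hf, Subgroup.normalizerMonoidHom_ker]
    rw [hC, Nat.card_congr (Subgroup.subgroupOfEquivOfLe Subgroup.le_normalizer).toEquiv]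
    exact hQ
  have he0 : 0 < e := Nat.card_pos
  have hed : e ∣ q - 1 := by
    haveI : IsCyclic (Q : Subgroup G) := isCyclic_of_prime_card hQ
    have h := Subgroup.card_subgroup_dvd_card f.range
    rwa [IsCyclic.card_mulAut, hQ, Nat.totient_prime hq] at h
  set n := Nat.card (Sylow q G) with hn
  have hn1 : n % q = 1 := by
    have h := card_sylow_modEq_one q G
    rw [Nat.ModEq, Nat.mod_eq_of_lt hq.one_lt] at h
    exact h
  have hen : e * n = 9 * 2 ^ a := by
    refine Nat.eq_of_mul_eq_mul_left hq.pos ?_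
    rw [hn, Sylow.card_eq_index_normalizer Q, ← mul_assoc, ← hN]
    exact (Subgroup.card_mul_index _).trans (hcard.trans (mul_comm _ _))
  clear_value e n
  by_cases h5 : q = 5
  · subst h5
    exfalso
    rcases hsign with ⟨-, -, h⟩ | ⟨hTa, hTb, h⟩
    · have hj : j < 3 := (Nat.pow_lt_pow_iff_right (by norm_num : 1 < 2)).1
        (by rw [← h]; norm_num)
      interval_cases j <;> norm_num at h
    · rw [show 2 ^ j = 4 by omega] at hB
      exact five_false hG hL T hA hB hTa hTb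
  have hq7 : 7 ≤ q := by
    by_contra h
    interval_cases q
    · exact h5 rfl
    · norm_num at hq
  obtain ⟨B⟩ := exists_qblock (G := G) hq2 Q hQ hC hN
  obtain ⟨hX, hX1, hdeg, θ, hθ, d, hd, hd39, hdq, -, hrel⟩ :=
    block_facts hG hq7 hcard hed he0 B
  by_cases hj : 5 ≤ j
  · exfalso
    have hdiv : (32 : ℤ) ∣ ∑ χ ∈ B.X.erase (principalIrr G),
        B.εX χ * (charDegree (χ : G → ℂ) : ℤ) := by
      refine Finset.dvd_sum fun χ hχ => dvd_mul_of_dvd_right ?_ _
      obtain ⟨x, r, hxr, hx9, hr, hcongr⟩ :=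
        hdeg χ (Finset.mem_of_mem_erase hχ) (Finset.ne_of_mem_erase hχ)
      have hjr : j ≤ r := two_pow_dvd_of_congr hj
        (hsign.imp (fun h => h.2.2) (fun h => h.2.2)) hx9 (fun h1 => by
          have h2 : 2 ∣ 1 := h1 ▸ dvd_mul_of_dvd_right (dvd_pow_self 2 (by omega)) x
          norm_num at h2) hcongr
      rw [hxr]
      exact Int.natCast_dvd_natCast.2
        (dvd_mul_of_dvd_right (show 2 ^ 5 ∣ 2 ^ r from pow_dvd_pow 2 (by omega)) x)
    rcases hd39 with rfl | rfl <;> rcases B.ε_sign with h | h <;> rw [h] at hrel <;> omega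
  have h717 : (q = 7 ∧ j = 3) ∨ (q = 17 ∧ j = 4 ∧ T.a = -1 ∧ T.b = 1) := by
    have hj4 : j ≤ 4 := by omega
    rcases hsign with ⟨-, -, h⟩ | ⟨hTa, hTb, h⟩
    · interval_cases j <;> norm_num at h <;> try omega
      obtain rfl : q = 15 := by omega
      norm_num at hq
    · interval_cases j <;> norm_num at h <;> try omega
      subst h
      norm_num at hq
  rcases h717 with ⟨rfl, -⟩ | ⟨rfl, rfl, hTa, hTb⟩
  · left
    have hd' : (d = 3 ∧ e = 3) ∨ (d = 9 ∧ e = 2) := by
      have hle : e ≤ 6 := Nat.le_of_dvd (by norm_num) hed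
      rcases hd39 with rfl | rfl <;> interval_cases e <;> omega
    rcases hd' with ⟨rfl, he3⟩ | ⟨rfl, he2⟩
    · exfalso
      rw [he3] at hen
      have hp : 2 ^ a % 7 = 2 ^ (a % 3) % 7 := by
        have h8 : (2 ^ 3) ^ (a / 3) % 7 = 1 := by rw [Nat.pow_mod]; simp
        conv_lhs => rw [← Nat.mod_add_div a 3]
        rw [pow_add, pow_mul, Nat.mul_mod, h8, mul_one, Nat.mod_mod]
      have : a % 3 < 3 := Nat.mod_lt _ (by norm_num)
      interval_cases h : a % 3 <;> omega
    · subst he2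
      obtain ⟨χ, hχ⟩ : ∃ χ, B.X.erase (principalIrr G) = {χ} :=
        Finset.card_eq_one.1 (by rw [Finset.card_erase_of_mem hX, B.card_X])
      have hχX : χ ∈ B.X.erase (principalIrr G) := hχ ▸ Finset.mem_singleton_self χ
      obtain ⟨x, r, hxr, hx9, hr, -⟩ :=
        hdeg χ (Finset.mem_of_mem_erase hχX) (Finset.ne_of_mem_erase hχX)
      rw [hχ, Finset.sum_singleton, hxr] at hrel
      have h10 : x * 2 ^ r ≠ 10 := by
        intro h
        rcases (show Nat.Prime 5 by norm_num).dvd_mul.1 (h ▸ (by norm_num : 5 ∣ 10)) with h | h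
        · have := h.trans hx9; norm_num at this
        · have := (show Nat.Prime 5 by norm_num).dvd_of_dvd_pow h; norm_num at this
      have hvals : x * 2 ^ r = 8 ∧ B.εX χ = 1 ∧ B.ε = 1 := by
        generalize x * 2 ^ r = N at *
        rcases B.ε_sign with h | h <;> rcases B.sign χ (Finset.mem_of_mem_erase hχX) with h' | h' <;>
          rw [h, h'] at hrel <;> refine ⟨?_, ?_, ?_⟩ <;> omega
      have hχd : (χ : G → ℂ) 1 = ((2 ^ 3 : ℕ) : ℂ) := by
        rw [deg_cast, hxr, hvals.1]; norm_num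
      have ha3 := seven hG ha hcard Q hQ hC B hX hX1 hχ hχd hvals.2.1 hvals.2.2 hn hen hn1
      rw [hcard, ha3]; norm_num
  · right
    have hd' : d = 9 ∧ e = 8 := by
      have hle : e ≤ 16 := Nat.le_of_dvd (by norm_num) hed
      rcases hd39 with rfl | rfl <;> interval_cases e <;> omega
    obtain ⟨rfl, he8⟩ := hd'
    rw [he8] at hen
    have hEint : ∀ g : G, ¬ 17 ∣ orderOf g → ∃ z : ℤ, (θ : G → ℂ) g = z := fun g hg => by
      refine B.exists_int_of_mem_Y Q hQ hθ hd (by norm_num) (fun χ hχ h9 => ?_) hg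
      by_cases hχ1 : χ = principalIrr G
      · rw [hχ1, principalIrr_apply] at h9; norm_num at h9
      obtain ⟨x, r, hxr, -, hr, -⟩ := hdeg χ hχ hχ1
      rw [deg_cast, Nat.cast_inj, hxr] at h9
      have : 2 ∣ 9 := h9 ▸ dvd_mul_of_dvd_right (dvd_pow_self 2 (by omega)) x
      norm_num at this
    have ha4 := seventeen hG T ha hcard Q hQ hC1 hA hB hTa
      (by rw [hd]; norm_num) hEint hen hn1
    rw [hcard, ha4]; norm_num

end CfsgLib.NineTwoPrimes

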