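import Cfsg.Agent.Lib.PermPrime.SelfCentralizing

/-!
# The principal block of a self-centralizing Sylow subgroup of prime order
-/

set_option autoImplicit false
set_option linter.style.haveILetI false
set_option linter.unusedSectionVars false

noncomputable section

namespace CfsgLib.NineTwoPrimes

open Cfsg CfsgLib.Characters
open scoped ComplexConjugate Classical

universe u

variable {G : Type u} [Group G] [Fintype G] {p : ℕ} [hp : Fact p.Prime]

/-- Outside the principal block the characters vanish on the singular elements. -/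
theorem vanish_of_notMem_principal {M : Ideal AlgInt} (hM : IsPModular p M) (P : Sylow p G)
    (hP : Nat.card P = p)
    (hC : Subgroup.centralizer ((P : Subgroup G) : Set G) = (P : Subgroup G))
    {ψ : IrrCharacter G} (hψB : ψ ∉ principalBlock M G) {g : G} (hg : p ∣ orderOf g) :
    (ψ : G → ℂ) g = 0 := by
  obtain ⟨c, hc, hc1⟩ := CfsgLib.PermPrime.exists_conj_mem P hP hC hg
  rw [← irr_isClassFunction ψ g c]
  by_contra hne
  refine hψB ?_
  obtain ⟨L, rfl⟩ := CfsgLib.CyclicDefect.exists_loc P hP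
  letI := Fintype.ofFinite L.C
  letI := Fintype.ofFinite L.O
  letI := Fintype.ofFinite L.Dual
  rw [← L.indB_principal hM]
  by_contra hmem
  have hO : ∀ y : L.O, y = 1 := by
    intro y
    obtain ⟨hy1, hy2⟩ := L.mem_O.1 y.2
    refine Subtype.ext ?_
    by_contra hy
    exact hy2 (dvd_of_eq (CfsgLib.PermPrime.dvd_orderOf_of_mem L.P hP (hC.le hy1) hy).symm)
  haveI : Subsingleton L.O := ⟨fun a b => by rw [hO a, hO b]⟩
  have hpow : c * g * c⁻¹ ∈ Subgroup.zpowers L.x := by rw [L.zpowers]; exact hc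
  obtain ⟨j, hj⟩ := mem_powers_iff_mem_zpowers.2 hpow
  have hj : L.x ^ j = c * g * c⁻¹ := hj
  have hjx : L.x ^ (j % p) = c * g * c⁻¹ := by
    rw [← hj]
    conv_rhs => rw [← Nat.div_add_mod j p, pow_add, pow_mul, L.x_pow_p, one_pow, one_mul]
  have hj0 : 0 < j % p := Nat.pos_of_ne_zero fun h => hc1 (by rw [← hjx, h, pow_zero])
  have h := L.proj (irr_isClassFunction ψ) (j % p) (principalIrr L.O)
  rw [Fintype.sum_subsingleton _ (1 : L.O)] at h
  have hconst : ∀ lam : L.Dual, L.coef (ψ : G → ℂ) lam (principalIrr L.O) =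
      L.coef (ψ : G → ℂ) 1 (principalIrr L.O) := fun lam => L.coef_const hM hmem lam 1
  simp only [hconst, ← Finset.mul_sum, OneMemClass.coe_one, mul_one] at h
  rw [L.sum_dual_pow_eq_zero hj0 (Nat.mod_lt _ hp.out.pos), mul_zero, mul_zero,
    show (principalIrr L.O : L.O → ℂ) 1 = 1 from rfl, map_one, one_mul, hjx] at h
  exact hne h

/-- The data of the principal block. -/
structure QBlock (p e : ℕ) (G : Type u) [Group G] [Fintype G] where
  X : Finset (IrrCharacter G)
  Y : Finset (IrrCharacter G)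
  εX : IrrCharacter G → ℤ
  ε : ℤ
  disjoint : Disjoint X Y
  card_X : X.card = e
  card_Y : Y.card = (p - 1) / e
  sign : ∀ χ ∈ X, εX χ = 1 ∨ εX χ = -1
  ε_sign : ε = 1 ∨ ε = -1
  deg_X : ∀ χ ∈ X, (charDegree (χ : G → ℂ) : ℤ) ≡ εX χ [ZMOD p]
  deg_Y : ∀ θ ∈ Y, (charDegree (θ : G → ℂ) : ℤ) ≡ ε * e [ZMOD p]
  sing : ∀ χ ∈ X, ∀ g : G, p ∣ orderOf g → (χ : G → ℂ) g = εX χ
  rel : ∀ θ ∈ Y, ∀ g : G, ¬ p ∣ orderOf g →
    (ε : ℂ) * (θ : G → ℂ) g = ∑ χ ∈ X, (εX χ : ℂ) * (χ : G → ℂ) g
  vanish : ∀ ψ : IrrCharacter G, ψ ∉ X → ψ ∉ Y → ∀ g : G, p ∣ orderOf g → (ψ : G → ℂ) g = 0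
  principal : principalIrr G ∈ X ∨ principalIrr G ∈ Y

theorem exists_qblock (hodd : p ≠ 2) (P : Sylow p G) (hP : Nat.card P = p)
    (hC : Subgroup.centralizer ((P : Subgroup G) : Set G) = (P : Subgroup G)) {e : ℕ}
    (hN : Nat.card (Subgroup.normalizer ((P : Subgroup G) : Set G)) = p * e) :
    Nonempty (QBlock p e G) := by
  obtain ⟨M, hM⟩ := CfsgLib.KGV.exists_isPModular p hp.out
  have he : (Subgroup.centralizer ((P : Subgroup G) : Set G)).relIndex
      (Subgroup.normalizer ((P : Subgroup G) : Set G)) = e := by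
    rw [hC]
    have h := ((P : Subgroup G).subgroupOf
      (Subgroup.normalizer ((P : Subgroup G) : Set G))).card_mul_index
    rw [Nat.card_congr (Subgroup.subgroupOfEquivOfLe Subgroup.le_normalizer).toEquiv,
      show Nat.card (P : Subgroup G) = p from hP, hN] at h
    exact Nat.eq_of_mul_eq_mul_left hp.out.pos h
  obtain ⟨X, Y, hB, hdisj, hXc, hYc, εX, ε, hX, hε, hYdeg, -, hrel⟩ :=
    Cfsg.Agent.S4441.result p M hM hodd P hP e he
  refine ⟨{
    X := (Set.toFinite X).toFinset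
    Y := (Set.toFinite Y).toFinset
    εX := εX
    ε := ε
    disjoint := Set.Finite.disjoint_toFinset.2 hdisj
    card_X := by rw [← Set.ncard_eq_toFinset_card, ← Nat.card_coe_set_eq, hXc]
    card_Y := by rw [← Set.ncard_eq_toFinset_card, ← Nat.card_coe_set_eq, hYc]
    sign := fun χ hχ => (hX χ ((Set.Finite.mem_toFinset _).1 hχ)).1
    ε_sign := hε
    deg_X := fun χ hχ => (hX χ ((Set.Finite.mem_toFinset _).1 hχ)).2.1
    deg_Y := fun θ hθ => hYdeg θ ((Set.Finite.mem_toFinset _).1 hθ)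
    sing := fun χ hχ g hg => ?_
    rel := fun θ hθ g hg => ?_
    vanish := fun ψ h1 h2 g hg => vanish_of_notMem_principal hM P hP hC (fun hmem => ?_) hg
    principal := ?_ }⟩
  · obtain ⟨c, hc, hc1⟩ := CfsgLib.PermPrime.exists_conj_mem P hP hC hg
    rw [← irr_isClassFunction χ g c,
      ← (hX χ ((Set.Finite.mem_toFinset _).1 hχ)).2.2 _ hc hc1 1 (Subgroup.one_mem _)
        (by rw [orderOf_one]; exact hp.out.not_dvd_one), mul_one]
  · rw [hrel θ ((Set.Finite.mem_toFinset _).1 hθ) g hg,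
      finsum_mem_eq_finite_toFinset_sum _ (Set.toFinite X)]
  · rw [hB] at hmem
    rcases hmem with h | h
    · exact h1 ((Set.Finite.mem_toFinset _).2 h)
    · exact h2 ((Set.Finite.mem_toFinset _).2 h)
  · have h : principalIrr G ∈ principalBlock M G := CfsgLib.Blocks.principalIrr_mem hM
    rw [hB] at h
    rcases h with h | h
    · exact Or.inl ((Set.Finite.mem_toFinset _).2 h)
    · exact Or.inr ((Set.Finite.mem_toFinset _).2 h)

end CfsgLib.NineTwoPrimes
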