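import Cfsg.Agent.Lib.NineTwoPrimes.Local
import Cfsg.Agent.Lib.NineTwoPrimes.QBlock
import Cfsg.Agent.Lib.Chars17.TwoClassSylow

/-!
# The Sylow subgroup for the odd prime
-/

set_option autoImplicit false
set_option linter.style.haveILetI false
set_option linter.unusedSectionVars false

noncomputable section

namespace CfsgLib.NineTwoPrimes

open Cfsg CfsgLib.Characters CfsgLib.ClassCount
open scoped ComplexConjugate Classical

universe u

variable {G : Type u} [Group G] [Fintype G]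

theorem dvd_of_not_three_dvd {a b q d : ℕ} (hd : d ∣ 9 * 2 ^ a * q ^ b) (h3 : ¬ 3 ∣ d)
    (hq : q.Prime) : ∃ s t, d = 2 ^ s * q ^ t := by
  rw [mul_assoc] at hd
  have h := ((Nat.prime_three.coprime_iff_not_dvd.2 h3).pow_left 2).symm.dvd_of_dvd_mul_left hd
  obtain ⟨x, y, hx, hy, rfl⟩ := Nat.dvd_mul.1 h
  obtain ⟨s, -, rfl⟩ := (Nat.dvd_prime_pow Nat.prime_two).1 hx
  obtain ⟨t, -, rfl⟩ := (Nat.dvd_prime_pow hq).1 hy
  exact ⟨s, t, rfl⟩

variable [IsSimpleGroup G] (hG : ¬ IsMulCommutative G)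

include hG in
/-- The degrees: a prime `q` and a neighbouring power of two. -/
theorem exists_prime_degree {D : Ctx G} {L : Subgroup G} {T : D.Triple L} (hT : D.Coprime3 L T)
    {q a b : ℕ} (hq : q.Prime) (hq5 : 5 ≤ q) (hcard : Nat.card G = 9 * 2 ^ a * q ^ b) :
    ∃ (T' : D.Triple L) (j : ℕ), (T'.A : G → ℂ) 1 = (q : ℂ) ∧
      (T'.B : G → ℂ) 1 = ((2 ^ j : ℕ) : ℂ) ∧
      ((T'.a = 1 ∧ T'.b = -1 ∧ q + 1 = 2 ^ j) ∨ (T'.a = -1 ∧ T'.b = 1 ∧ q = 2 ^ j + 1)) := by
  obtain ⟨dA, hdA, -, hA⟩ := exists_deg T.A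
  obtain ⟨dB, hdB, -, hB⟩ := exists_deg T.B
  obtain ⟨hA3, hB3⟩ := hT dA dB hdA hdB
  have hA1 := one_lt_degree hG T.A_ne hdA
  have hB1 := one_lt_degree hG T.B_ne hdB
  rw [hcard] at hA hB
  obtain ⟨s, u, rfl⟩ := dvd_of_not_three_dvd hA hA3 hq
  obtain ⟨s', u', rfl⟩ := dvd_of_not_three_dvd hB hB3 hq
  have key : ∀ (T : D.Triple L) (s u s' u' : ℕ), (T.A : G → ℂ) 1 = ((2 ^ s * q ^ u : ℕ) : ℂ) →
      (T.B : G → ℂ) 1 = ((2 ^ s' * q ^ u' : ℕ) : ℂ) → s = 0 → 1 < 2 ^ s * q ^ u →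
      1 < 2 ^ s' * q ^ u' →
      ∃ (T' : D.Triple L) (j : ℕ), (T'.A : G → ℂ) 1 = (q : ℂ) ∧
        (T'.B : G → ℂ) 1 = ((2 ^ j : ℕ) : ℂ) ∧
        ((T'.a = 1 ∧ T'.b = -1 ∧ q + 1 = 2 ^ j) ∨ (T'.a = -1 ∧ T'.b = 1 ∧ q = 2 ^ j + 1)) := by
    rintro T s u s' u' hdA hdB rfl hA1 hB1
    rw [pow_zero, one_mul] at hdA hA1
    have hu : 1 ≤ u := by
      rcases Nat.eq_zero_or_pos u with rfl | h
      · simp at hA1
      · exact h
    have hrel := T.degree_eq_zero hdA hdB
    have hu' : u' = 0 := by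
      by_contra h0
      have h1 : (q : ℤ) ∣ ((q ^ u : ℕ) : ℤ) := Int.natCast_dvd_natCast.2 (dvd_pow_self q (by omega))
      have h2 : (q : ℤ) ∣ ((2 ^ s' * q ^ u' : ℕ) : ℤ) :=
        Int.natCast_dvd_natCast.2 (dvd_mul_of_dvd_right (dvd_pow_self q h0) _)
      have h3 : (q : ℤ) ∣ 1 := by
        rw [show (1 : ℤ) = -(T.a * ((q ^ u : ℕ) : ℤ)) - T.b * ((2 ^ s' * q ^ u' : ℕ) : ℤ) by linarith]
        exact dvd_sub (dvd_neg.2 (dvd_mul_of_dvd_right h1 _)) (dvd_mul_of_dvd_right h2 _)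
      have := Int.le_of_dvd one_pos h3
      omega
    subst hu'
    rw [pow_zero, mul_one] at hrel hdB hB1
    have hcases : (T.a = 1 ∧ T.b = -1 ∧ q ^ u + 1 = 2 ^ s') ∨
        (T.a = -1 ∧ T.b = 1 ∧ q ^ u = 2 ^ s' + 1) := by
      have hp1 : 0 < q ^ u := by positivity
      have hp2 : 0 < 2 ^ s' := by positivity
      rcases T.a_sign with e | e <;> rcases T.b_sign with e' | e' <;> rw [e, e'] at hrel <;>
        push_cast at hrel
      · exfalso; push_cast [← @Nat.cast_lt ℤ] at hp1 hp2; linarith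
      · exact Or.inl ⟨e, e', by zify; linarith⟩
      · exact Or.inr ⟨e, e', by zify; linarith⟩
      · exfalso; push_cast [← @Nat.cast_lt ℤ] at hA1; linarith [pow_pos (two_pos : (0:ℤ) < 2) s']
    have h1 : u = 1 := pow_prime_next_two_pow hq hq5 hu
      (hcases.symm.imp (fun h => h.2.2) (fun h => h.2.2))
    subst h1
    rw [pow_one] at hdA hcases
    exact ⟨T, s', hdA, hdB, hcases⟩
  rcases Nat.eq_zero_or_pos s with h | h
  · exact key T s u s' u' hdA hdB h hA1 hB1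
  · refine key T.swap s' u' s u hdB hdA ?_ hB1 hA1
    by_contra h0
    have hrel := T.degree_eq_zero hdA hdB
    have h1 : (2 : ℤ) ∣ ((2 ^ s * q ^ u : ℕ) : ℤ) :=
      Int.natCast_dvd_natCast.2 (dvd_mul_of_dvd_left (dvd_pow_self 2 (by omega)) _)
    have h2 : (2 : ℤ) ∣ ((2 ^ s' * q ^ u' : ℕ) : ℤ) :=
      Int.natCast_dvd_natCast.2 (dvd_mul_of_dvd_left (dvd_pow_self 2 h0) _)
    have h3 : (2 : ℤ) ∣ 1 := by
      rw [show (1 : ℤ) = -(T.a * ((2 ^ s * q ^ u : ℕ) : ℤ)) - T.b * ((2 ^ s' * q ^ u' : ℕ) : ℤ) by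
        linarith]
      exact dvd_sub (dvd_neg.2 (dvd_mul_of_dvd_right h1 _)) (dvd_mul_of_dvd_right h2 _)
    norm_num at h3

include hG in
/-- A faithful rational character of degree `q` forces a Sylow subgroup of order `q`. -/
theorem exponent_eq_one {χ : IrrCharacter G} (hne : χ ≠ principalIrr G) (hint : IntValued χ)
    {q a b : ℕ} (hq : q.Prime) (hq5 : 5 ≤ q) (hd : (χ : G → ℂ) 1 = (q : ℂ))
    (hcard : Nat.card G = 9 * 2 ^ a * q ^ b) (hb : 1 ≤ b) : b = 1 := by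
  haveI : Fact q.Prime := ⟨hq⟩
  obtain ⟨Q⟩ : Nonempty (Sylow q G) := inferInstance
  have hQ : Nat.card (Q : Subgroup G) = q ^ b := by
    have h9 : ¬ q ∣ 9 * 2 ^ a := by
      intro h
      rcases hq.dvd_mul.1 h with h | h
      · have := Nat.le_of_dvd (by norm_num) h
        interval_cases q <;> simp_all (config := { decide := true })
      · have := (Nat.prime_dvd_prime_iff_eq hq Nat.prime_two).1 (hq.dvd_of_dvd_pow h)
        omega
    rw [Sylow.card_eq_multiplicity, hcard, Nat.factorization_mul (by positivity)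
      (pow_ne_zero b hq.ne_zero), Finsupp.add_apply, Nat.factorization_eq_zero_of_not_dvd h9,
      Nat.Prime.factorization_pow hq, Finsupp.single_eq_same, zero_add]
  have hv : ∀ x ∈ (Q : Subgroup G), x ≠ 1 → (χ : G → ℂ) x = 0 := by
    intro x hx hx1
    obtain ⟨k, hk⟩ := Q.2 ⟨x, hx⟩
    have hk' : x ^ q ^ k = 1 := congrArg Subtype.val hk
    obtain ⟨z, hz⟩ := hint x
    have hd' : (χ : G → ℂ) 1 = ((q : ℤ) : ℂ) := by rw [hd, Int.cast_natCast]
    obtain ⟨c, hc⟩ := int_congr (irr_isCharacter χ) hq hk' hz hd'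
    obtain ⟨h1, h2⟩ := abs_lt hG hne hx1 hd hz
    have e : z = q * (c + 1) := by linarith
    have hc1 : c + 1 = 0 := by
      have : -1 < c + 1 := by nlinarith
      have : c + 1 < 1 := by nlinarith
      omega
    rw [hz, e, hc1, mul_zero, Int.cast_zero]
  have h := CfsgLib.Chars17.card_dvd_degree_of_vanishing (irr_isCharacter χ) (Q : Subgroup G) hv
  rw [hQ, show charDegree (χ : G → ℂ) = q by simp [charDegree, hd]] at h
  have := (Nat.pow_dvd_pow_iff_le_right hq.one_lt).1 (show q ^ b ∣ q ^ 1 by rwa [pow_one])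
  omega

include hG in
/-- The Sylow subgroup of order `q` is self-centralizing. -/
theorem centralizer_le {χ : IrrCharacter G} (hne : χ ≠ principalIrr G)
    {q a : ℕ} [hq : Fact q.Prime] (hq5 : 5 ≤ q) (hd : (χ : G → ℂ) 1 = (q : ℂ))
    (hcard : Nat.card G = 9 * 2 ^ a * q) (Q : Sylow q G) {u : G}
    (hu : u ∈ (Q : Subgroup G)) (hu1 : u ≠ 1) :
    Nat.card (Q : Subgroup G) = q ∧
      Subgroup.centralizer ({u} : Set G) = (Q : Subgroup G) := by
  have h9 : ¬ q ∣ 9 * 2 ^ a := by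
    intro h
    rcases hq.out.dvd_mul.1 h with h | h
    · have := Nat.le_of_dvd (by norm_num) h
      have := hq.out
      interval_cases q <;> simp_all (config := { decide := true })
    · have := (Nat.prime_dvd_prime_iff_eq hq.out Nat.prime_two).1 (hq.out.dvd_of_dvd_pow h)
      omega
  have hQ : Nat.card (Q : Subgroup G) = q := by
    rw [Sylow.card_eq_multiplicity, hcard, Nat.factorization_mul (by positivity) hq.out.ne_zero,
      Finsupp.add_apply, Nat.factorization_eq_zero_of_not_dvd h9, hq.out.factorization_self,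
      zero_add, pow_one]
  refine ⟨hQ, ?_⟩
  have hle : (Q : Subgroup G) ≤ Subgroup.centralizer ({u} : Set G) := by
    have : IsCyclic (Q : Subgroup G) := isCyclic_of_prime_card hQ
    intro x hx
    rw [Subgroup.mem_centralizer_singleton_iff]
    exact congrArg Subtype.val
      ((IsCyclic.commGroup (α := (Q : Subgroup G))).mul_comm ⟨x, hx⟩ ⟨u, hu⟩)
  refine (Subgroup.eq_of_le_of_card_ge hle ?_).symm
  rw [hQ]
  set C := Subgroup.centralizer ({u} : Set G)
  by_contra hgt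
  obtain ⟨c, hc⟩ : q ∣ Nat.card C := hQ ▸ Subgroup.card_dvd_of_le hle
  have hc9 : c ∣ 9 * 2 ^ a := by
    have h := Subgroup.card_subgroup_dvd_card C
    rw [hc, hcard, mul_comm (9 * 2 ^ a)] at h
    exact Nat.dvd_of_mul_dvd_mul_left hq.out.pos h
  have hc1 : c ≠ 1 := fun h => hgt (by rw [hc, h, mul_one])
  haveI : Fact c.minFac.Prime := ⟨Nat.minFac_prime hc1⟩
  obtain ⟨v, hv⟩ := exists_prime_orderOf_dvd_card' c.minFac
    (show c.minFac ∣ Nat.card C from hc ▸ dvd_mul_of_dvd_right (Nat.minFac_dvd c) q)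
  have hr : ¬ q ∣ c.minFac := fun h => h9 ((h.trans (Nat.minFac_dvd c)).trans hc9)
  have hv1 : (v : G) ≠ 1 := fun h => (Nat.minFac_prime hc1).ne_one (by
    rw [← hv, ← Subgroup.orderOf_coe, h, orderOf_one])
  have hcl : (Q : Subgroup G) ≤ Subgroup.centralizer ({(v : G)} : Set G) := by
    have hgen : (Q : Subgroup G) = Subgroup.zpowers u := by
      refine (Subgroup.eq_of_le_of_card_ge (Subgroup.zpowers_le.2 hu) ?_).symm
      rw [hQ, Nat.card_zpowers]
      have h := Subgroup.orderOf_dvd_natCard (Q : Subgroup G) hu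
      rw [hQ] at h
      rcases hq.out.eq_one_or_self_of_dvd _ h with e | e
      · exact absurd (orderOf_eq_one_iff.1 e) hu1
      · exact e.ge
    rw [hgen, Subgroup.zpowers_le, Subgroup.mem_centralizer_singleton_iff]
    exact (Subgroup.mem_centralizer_singleton_iff.1 v.2).symm
  have hcop : q.Coprime (Subgroup.centralizer ({(v : G)} : Set G)).index := by
    rw [hq.out.coprime_iff_not_dvd]
    intro h
    exact Q.not_dvd_index (h.trans (Subgroup.index_dvd_of_le hcl))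
  have h0 := eq_zero_of_coprime hG hne hv1 hd hcop
  have hcong := int_congr (irr_isCharacter χ) (Nat.minFac_prime hc1) (k := 1) (g := (v : G))
    (by rw [pow_one, ← hv, ← Subgroup.orderOf_coe, pow_orderOf_eq_one])
    (n := 0) (d := (q : ℤ)) (by rw [h0, Int.cast_zero]) (by rw [hd, Int.cast_natCast])
  rw [zero_sub, dvd_neg, Int.natCast_dvd_natCast] at hcong
  exact hr (((Nat.prime_dvd_prime_iff_eq (Nat.minFac_prime hc1) hq.out).1 hcong).symm ▸ dvd_rfl)

end CfsgLib.NineTwoPrimes
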