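import Cfsg.Agent.Lib.NineTwoPrimes.Tools
import Cfsg.Agent.Lib.Characters.NormalAvg
import Cfsg.Agent.Lib.Blocks.ClassCount
import Mathlib.GroupTheory.Transfer

/-!
# The sections of the elements of a Sylow subgroup of order nine

For `|G| = 9 m` with `m` prime to three and `N ≡ 1 (mod 9)`, `m ∣ N`, the map `x ↦ x ^ N` is the
projection to the commuting part of order dividing nine.
-/

set_option autoImplicit false
set_option linter.style.haveILetI false
set_option linter.unusedSectionVars false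

noncomputable section

namespace CfsgLib.NineTwoPrimes

open Cfsg CfsgLib.Characters CfsgLib.ClassCount
open scoped ComplexConjugate Classical

universe u

variable {G : Type u} [Group G] [Fintype G]

/-- A Sylow subgroup of order nine and an exponent projecting to its parts. -/
structure Ctx (G : Type u) [Group G] [Fintype G] where
  R : Sylow 3 G
  card_R : Nat.card (R : Subgroup G) = 9
  m : ℕ
  card_G : Nat.card G = 9 * m
  coprime : ¬ 3 ∣ m
  N : ℕ
  N_nine : N % 9 = 1
  N_m : m ∣ N

theorem exists_ctx (R : Sylow 3 G) (hR : Nat.card (R : Subgroup G) = 9) {m : ℕ}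
    (hm : Nat.card G = 9 * m) (hco : ¬ 3 ∣ m) : ∃ D : Ctx G, D.R = R ∧ D.m = m := by
  have hcop : Nat.Coprime 9 m := (Nat.prime_three.coprime_iff_not_dvd.2 hco).pow_left 2
  obtain ⟨N, h1, h2⟩ := Nat.chineseRemainder hcop 1 0
  exact ⟨⟨R, hR, m, hm, hco, N, h1, Nat.modEq_zero_iff_dvd.1 h2⟩, rfl, rfl⟩

namespace Ctx

variable (D : Ctx G)

theorem coprime_nine : Nat.Coprime 9 D.m :=
  (Nat.prime_three.coprime_iff_not_dvd.2 D.coprime).pow_left 2

theorem m_pos : 0 < D.m := Nat.pos_of_ne_zero fun h => D.coprime (h ▸ dvd_zero 3)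

theorem card_eq_m : Nat.card G = D.m * 9 := D.card_G.trans (mul_comm _ _)

theorem pow_N_nine (x : G) : (x ^ D.N) ^ 9 = 1 := by
  obtain ⟨c, hc⟩ := D.N_m
  rw [← pow_mul, show D.N * 9 = Nat.card G * c by rw [hc, D.card_G]; ring, pow_mul,
    pow_card_eq_one', one_pow]

theorem pow_N_of_nine {y : G} (hy : y ^ 9 = 1) : y ^ D.N = y := by
  have h := Nat.div_add_mod D.N 9
  rw [D.N_nine] at h
  rw [← h, pow_add, pow_mul, hy, one_pow, one_mul, pow_one]

theorem pow_N_of_m {v : G} (hv : v ^ D.m = 1) : v ^ D.N = 1 := by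
  obtain ⟨c, hc⟩ := D.N_m
  rw [hc, pow_mul, hv, one_pow]

theorem nine_of_mem {y : G} (hy : y ∈ (D.R : Subgroup G)) : y ^ 9 = 1 := by
  have h := Subgroup.orderOf_dvd_natCard (D.R : Subgroup G) hy
  rw [D.card_R] at h
  exact orderOf_dvd_iff_pow_eq_one.1 h

theorem isMulCommutative_R : IsMulCommutative (D.R : Subgroup G) := by
  haveI : Fact (Nat.Prime 3) := ⟨Nat.prime_three⟩
  exact ⟨⟨fun a b => (IsPGroup.isMulCommutative_of_card_eq_prime_sq (p := 3) (by rw [D.card_R]; norm_num)).is_comm.comm a b⟩⟩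

theorem comm_of_mem {x y : G} (hx : x ∈ (D.R : Subgroup G)) (hy : y ∈ (D.R : Subgroup G)) :
    x * y = y * x :=
  congrArg Subtype.val (D.isMulCommutative_R.is_comm.comm (⟨x, hx⟩ : (D.R : Subgroup G)) ⟨y, hy⟩)

theorem R_le_centralizer {y : G} (hy : y ∈ (D.R : Subgroup G)) :
    (D.R : Subgroup G) ≤ Subgroup.centralizer ({y} : Set G) := fun x hx =>
  Subgroup.mem_centralizer_singleton_iff.2 (D.comm_of_mem hx hy)

/-- The elements with part `y`. -/
def fib (y : G) : Finset G := Finset.univ.filter fun x => x ^ D.N = y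

theorem mem_fib {x y : G} : x ∈ D.fib y ↔ x ^ D.N = y := by simp [fib]

theorem sum_fib_conj {R : Type*} [AddCommMonoid R] (F : G → R) (hF : ∀ x g : G, F (g * x * g⁻¹) = F x)
    {y w : G} (h : IsConj y w) : ∑ x ∈ D.fib w, F x = ∑ x ∈ D.fib y, F x := by
  obtain ⟨g, rfl⟩ := isConj_iff.1 h
  symm
  refine Finset.sum_equiv (MulAut.conj g).toEquiv (fun x => ?_) fun x _ => (hF x g).symm
  rw [D.mem_fib, D.mem_fib]
  show x ^ D.N = y ↔ (MulAut.conj g x) ^ D.N = MulAut.conj g y
  rw [← map_pow, (MulAut.conj g).injective.eq_iff]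

/-- The section of `y`. -/
def sec (y : G) : Finset G := Finset.univ.filter fun x => IsConj y (x ^ D.N)

theorem mem_sec {x y : G} : x ∈ D.sec y ↔ IsConj y (x ^ D.N) := by simp [sec]

theorem sum_sec {R : Type*} [AddCommMonoid R] (F : G → R) (hF : ∀ x g, F (g * x * g⁻¹) = F x)
    (y : G) : ∑ x ∈ D.sec y, F x = (cls y).card • ∑ x ∈ D.fib y, F x := by
  rw [← Finset.sum_fiberwise_of_maps_to (g := fun x => x ^ D.N) (t := cls y)
    (fun x hx => mem_cls.2 (D.mem_sec.1 hx))]
  rw [Finset.sum_congr rfl (g := fun _ => ∑ x ∈ D.fib y, F x), Finset.sum_const]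
  intro w hw
  rw [← D.sum_fib_conj F hF (mem_cls.1 hw)]
  refine Finset.sum_congr ?_ fun _ _ => rfl
  ext x
  simp only [Finset.mem_filter, D.mem_fib, D.mem_sec, and_iff_right_iff_imp]
  rintro rfl
  exact mem_cls.1 hw

theorem card_sec (y : G) : (D.sec y).card * Nat.card (Subgroup.centralizer ({y} : Set G)) =
    Nat.card G * (D.fib y).card := by
  have h := D.sum_sec (fun _ => 1) (fun _ _ => rfl) y
  simp only [Finset.sum_const, smul_eq_mul, mul_one] at h
  rw [h, ← card_cls_mul_centralizer y]; ring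

theorem three_mul_card_fib_le {y : G} (hy : y ^ 9 = 1) (hy1 : y ≠ 1) :
    3 * (D.fib y).card ≤ Nat.card (Subgroup.centralizer ({y} : Set G)) := by
  set C := Subgroup.centralizer ({y} : Set G)
  haveI := Fintype.ofFinite C
  have hC : ∀ x ∈ D.fib y, x ∈ C := fun x hx => by
    rw [Subgroup.mem_centralizer_singleton_iff, ← D.mem_fib.1 hx, ← pow_succ', ← pow_succ]
  have hord : 3 ≤ orderOf y := by
    obtain ⟨k, hk, hok⟩ := (Nat.dvd_prime_pow Nat.prime_three).1
      (show orderOf y ∣ 3 ^ 2 from orderOf_dvd_of_pow_eq_one hy)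
    interval_cases k
    · exact absurd (orderOf_eq_one_iff.1 hok) hy1
    all_goals omega
  calc 3 * (D.fib y).card
      = Fintype.card (Fin 3 × {x // x ∈ D.fib y}) := by simp
    _ ≤ Fintype.card C := by
      refine Fintype.card_le_of_injective
        (fun a => ⟨(a.2 : G) * y ^ (a.1 : ℕ), C.mul_mem (hC _ a.2.2)
          (C.pow_mem (Subgroup.mem_centralizer_singleton_iff.2 rfl) _)⟩) ?_
      rintro ⟨i, x, hx⟩ ⟨j, x', hx'⟩ h
      simp only [Subtype.mk.injEq] at h
      have hc : ∀ x ∈ D.fib y, ∀ i : ℕ, (x * y ^ i) ^ D.N = y ^ (i + 1) := fun x hx i => by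
        rw [Commute.mul_pow (Commute.pow_right
          (show Commute x y from Subgroup.mem_centralizer_singleton_iff.1 (hC x hx)) i),
          D.mem_fib.1 hx, ← pow_mul, mul_comm i, pow_mul, D.pow_N_of_nine hy, ← pow_succ']
      have h2 := congrArg (· ^ D.N) h
      simp only [hc x hx, hc x' hx'] at h2
      rw [pow_succ, pow_succ, mul_left_inj] at h2
      have hij : i = j := Fin.ext (pow_injOn_Iio_orderOf
        (show (i : ℕ) < orderOf y by omega) (show (j : ℕ) < orderOf y by omega) h2)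
      subst hij
      exact Prod.ext rfl (Subtype.ext (mul_right_cancel h))
    _ = Nat.card C := Nat.card_eq_fintype_card.symm

/-- An element of the Sylow subgroup with trivial automizer in its centralizer. -/
def Good (y : G) : Prop :=
  y ∈ (D.R : Subgroup G) ∧ Subgroup.centralizer ({y} : Set G) ⊓
    Subgroup.normalizer ((D.R : Subgroup G) : Set G) ≤
      Subgroup.centralizer ((D.R : Subgroup G) : Set G)

theorem exists_complement {y : G} (h : D.Good y) :
    ∃ K : Subgroup ↥(Subgroup.centralizer ({y} : Set G)), K.Normal ∧ ¬ 3 ∣ Nat.card K ∧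
      Nat.card (Subgroup.centralizer ({y} : Set G)) = 9 * Nat.card K ∧
      ∀ x, x ∈ K ↔ (x : G) ^ D.m = 1 := by
  haveI : Fact (Nat.Prime 3) := ⟨Nat.prime_three⟩
  set H := Subgroup.centralizer ({y} : Set G)
  have hle := D.R_le_centralizer h.1
  let Q : Sylow 3 H := D.R.subtype hle
  have hQ : Subgroup.normalizer ((Q : Subgroup H) : Set H) ≤
      Subgroup.centralizer ((Q : Subgroup H) : Set H) := by
    intro x hx
    have hn : (x : G) ∈ Subgroup.normalizer ((D.R : Subgroup G) : Set G) := by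
      rw [Subgroup.mem_normalizer_iff]
      intro z
      constructor
      · intro hz
        exact (Subgroup.mem_normalizer_iff.1 hx ⟨z, hle hz⟩).1 hz
      · intro hz
        have h1 := hle hz
        have h2 : z ∈ H := by
          have := H.mul_mem (H.mul_mem (H.inv_mem x.2) h1) x.2
          simpa [mul_assoc] using this
        exact (Subgroup.mem_normalizer_iff.1 hx ⟨z, h2⟩).2 hz
    have hC := h.2 ⟨x.2, hn⟩
    exact Subgroup.mem_centralizer_iff.2 fun a ha =>
      Subtype.ext (Subgroup.mem_centralizer_iff.1 hC a ha)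
  set K := (MonoidHom.transferSylow Q hQ).ker
  have hc := MonoidHom.ker_transferSylow_isComplement' Q hQ
  have hQc : Nat.card (Q : Subgroup H) = 9 :=
    (Nat.card_congr (Subgroup.subgroupOfEquivOfLe hle).toEquiv).trans D.card_R
  have hcard : Nat.card H = 9 * Nat.card K := by rw [← hc.card_mul_card, hQc, mul_comm]
  have h3 := MonoidHom.not_dvd_card_ker_transferSylow Q hQ
  refine ⟨K, inferInstance, h3, hcard, fun x => ⟨fun hx => ?_, fun hx => ?_⟩⟩
  · have hd : Nat.card K ∣ D.m := by
      refine Nat.Coprime.dvd_of_dvd_mul_left ((Nat.prime_three.coprime_iff_not_dvd.2 h3).symm.pow_right 2) ?_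
      rw [show 3 ^ 2 * D.m = Nat.card G by rw [D.card_G]; norm_num]
      exact ((dvd_mul_left _ 9).trans hcard.symm.dvd).trans (Subgroup.card_subgroup_dvd_card H)
    obtain ⟨c, hc'⟩ := hd
    have h1 : (⟨x, hx⟩ : K) ^ Nat.card K = 1 := pow_card_eq_one'
    rw [hc', pow_mul, show (x : G) ^ Nat.card K = 1 from
      congrArg (fun z : K => ((z : H) : G)) h1, one_pow]
  · have hidx : K.index = 9 := by
      have := K.card_mul_index
      rw [hcard, mul_comm 9] at this
      exact Nat.eq_of_mul_eq_mul_left Nat.card_pos this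
    have h9 := Subgroup.pow_index_mem K x
    rw [hidx] at h9
    have hcop : (orderOf x).Coprime 9 := by
      refine Nat.Coprime.coprime_dvd_left ?_ D.coprime_nine.symm
      rw [← Subgroup.orderOf_coe]
      exact orderOf_dvd_of_pow_eq_one hx
    obtain ⟨c, hc'⟩ := exists_pow_eq_self_of_coprime hcop.symm
    rw [← hc']
    exact K.pow_mem h9 c

theorem sum_fib_good {R : Type*} [AddCommMonoid R] {y : G} (h : D.Good y)
    {K : Subgroup ↥(Subgroup.centralizer ({y} : Set G))} [Fintype K]
    (hK : ∀ x, x ∈ K ↔ (x : G) ^ D.m = 1) (F : G → R) :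
    ∑ x ∈ D.fib y, F x = ∑ k : K, F (((k : ↥(Subgroup.centralizer ({y} : Set G))) : G) * y) := by
  have hy9 := D.nine_of_mem h.1
  symm
  refine Finset.sum_bij (fun (k : K) _ => ((k : ↥(Subgroup.centralizer ({y} : Set G))) : G) * y) (fun k _ => ?_) ?_ ?_ fun _ _ => rfl
  · rw [D.mem_fib, Commute.mul_pow (show Commute _ y from
      Subgroup.mem_centralizer_singleton_iff.1 (k : ↥(Subgroup.centralizer ({y} : Set G))).2),
      D.pow_N_of_m ((hK _).1 k.2), D.pow_N_of_nine hy9, one_mul]
  · intro a _ b _ e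
    exact Subtype.ext (Subtype.ext (mul_right_cancel e))
  · intro x hx
    have hxy : x ^ D.N = y := D.mem_fib.1 hx
    have hc : Commute x y := hxy ▸ (Commute.refl x).pow_right _
    have hv : (x * y⁻¹) ^ D.m = 1 := by
      rw [hc.inv_right.mul_pow, inv_pow, mul_inv_eq_one, ← hxy, ← pow_mul, mul_comm, pow_mul]
      refine (D.pow_N_of_nine ?_).symm
      rw [← pow_mul, mul_comm, ← D.card_G, pow_card_eq_one']
    exact ⟨⟨⟨x * y⁻¹, (Subgroup.centralizer ({y} : Set G)).mul_mem (Subgroup.mem_centralizer_singleton_iff.2 hc.eq)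
      ((Subgroup.centralizer ({y} : Set G)).inv_mem (Subgroup.mem_centralizer_singleton_iff.2 rfl))⟩, (hK _).2 hv⟩,
      Finset.mem_univ _, inv_mul_cancel_right x y⟩

theorem nine_mul_card_fib {y : G} (h : D.Good y) :
    9 * (D.fib y).card = Nat.card (Subgroup.centralizer ({y} : Set G)) := by
  obtain ⟨K, -, -, hcard, hK⟩ := D.exists_complement h
  haveI := Fintype.ofFinite K
  have h1 := D.sum_fib_good h hK (fun _ => 1)
  simp only [Finset.sum_const, smul_eq_mul, mul_one, Finset.card_univ] at h1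
  rw [hcard, h1, Nat.card_eq_fintype_card]

theorem nine_mul_card_sec {y : G} (h : D.Good y) : 9 * (D.sec y).card = Nat.card G := by
  have h1 := D.card_sec y
  rw [← D.nine_mul_card_fib h] at h1
  refine Nat.eq_of_mul_eq_mul_right (m := (D.fib y).card) ?_ (by rw [← h1]; ring)
  have h2 := D.nine_mul_card_fib h
  have : 0 < Nat.card (Subgroup.centralizer ({y} : Set G)) := Nat.card_pos
  omega

theorem three_mul_card_sec_le {y : G} (hy : y ^ 9 = 1) (hy1 : y ≠ 1) :
    3 * (D.sec y).card ≤ Nat.card G := by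
  have h1 := D.card_sec y
  have h2 := D.three_mul_card_fib_le hy hy1
  refine Nat.le_of_mul_le_mul_right ?_ (Nat.card_pos (α := Subgroup.centralizer ({y} : Set G)))
  rw [mul_assoc, h1, mul_left_comm]
  exact Nat.mul_le_mul_left _ h2

/-- The average of a character over the elements with part `y` is an algebraic integer. -/
theorem exists_avg {y : G} (h : D.Good y) {χ : G → ℂ} (hχ : IsCharacter G χ) :
    ∃ α : ℂ, IsIntegral ℤ α ∧
      9 * ∑ x ∈ D.fib y, χ x = (Nat.card (Subgroup.centralizer ({y} : Set G)) : ℂ) * α := by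
  obtain ⟨K, hKn, -, hcard, hK⟩ := D.exists_complement h
  haveI := hKn
  haveI := Fintype.ofFinite K
  let H := Subgroup.centralizer ({y} : Set G)
  haveI : Fintype ↥(Subgroup.centralizer ({y} : Set G)) := Fintype.ofFinite _
  have hF : IsCharacter H (fun z : H => χ z) := CfsgLib.Clifford.isCharacter_subtype hχ H
  let y' : H := ⟨y, Subgroup.mem_centralizer_singleton_iff.2 rfl⟩
  refine ⟨NormalAvg.avgN K (fun z : H => χ z) y',
    isIntegral_of_isCharacter (NormalAvg.isCharacter_avgN K hF) y', ?_⟩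
  rw [D.sum_fib_good h hK, NormalAvg.avgN, hcard, Nat.cast_mul, mul_assoc, ← mul_assoc (Nat.card K : ℂ),
    mul_inv_cancel₀ (Nat.cast_ne_zero.2 Nat.card_pos.ne'), one_mul]
  rfl

end Ctx

end CfsgLib.NineTwoPrimes
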