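import Cfsg.Agent.Lib.NineTwoPrimes.Section
import Cfsg.Agent.Lib.Characters.ElemSection
import Cfsg.Agent.Lib.Characters.LinearTwist
import Mathlib.GroupTheory.FiniteAbelian.Duality
import Mathlib.RingTheory.RootsOfUnity.AlgebraicallyClosed
import Mathlib.Analysis.Complex.Polynomial.Basic

/-!
# The virtual character supported on the sections outside an invariant line

For an invariant subgroup `L` of order three of the Sylow subgroup, the class function equal to
three on the elements whose part is fused outside `L` is a generalized character; it is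
`1 + a A + b B` for two rational irreducible characters.
-/

set_option autoImplicit false
set_option linter.style.haveILetI false
set_option linter.unusedSectionVars false

noncomputable section

namespace CfsgLib.NineTwoPrimes

open Cfsg CfsgLib.Characters CfsgLib.ClassCount
open scoped ComplexConjugate Classical

universe u

variable {G : Type u} [Group G] [Fintype G]

namespace Ctx

variable (D : Ctx G)

/-- An invariant subgroup of order three. -/
structure Line (L : Subgroup G) : Prop where
  le : L ≤ (D.R : Subgroup G)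
  card : Nat.card L = 3
  inv : ∀ n ∈ Subgroup.normalizer ((D.R : Subgroup G) : Set G), ∀ y ∈ L, n * y * n⁻¹ ∈ L

/-- The union of the sections outside `L`. -/
def supp (L : Subgroup G) : Finset G :=
  Finset.univ.filter fun x => ∃ y ∈ (D.R : Subgroup G), y ∉ L ∧ IsConj y (x ^ D.N)

/-- The virtual character. -/
def theta (L : Subgroup G) : G → ℂ := fun x => if x ∈ D.supp L then 3 else 0

theorem mem_supp {L : Subgroup G} {x : G} :
    x ∈ D.supp L ↔ ∃ y ∈ (D.R : Subgroup G), y ∉ L ∧ IsConj y (x ^ D.N) := by simp [supp]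

theorem conj_pow_N {a g : G} : (g * a * g⁻¹) ^ D.N = g * a ^ D.N * g⁻¹ :=
  (map_pow (MulAut.conj g) a D.N).symm

theorem isClassFunction_theta (L : Subgroup G) : IsClassFunction G (D.theta L) := by
  intro x g
  have : g * x * g⁻¹ ∈ D.supp L ↔ x ∈ D.supp L := by
    simp only [D.mem_supp, D.conj_pow_N]
    refine exists_congr fun y => and_congr_right fun _ => and_congr_right fun _ => ?_
    exact ⟨fun h => h.trans (isConj_iff.2 ⟨g, rfl⟩).symm, fun h => h.trans (isConj_iff.2 ⟨g, rfl⟩)⟩
  simp only [theta, this]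

theorem mem_line_of_conj {L : Subgroup G} (hL : D.Line L) {y y' : G}
    (hy : y ∈ L) (hy' : y' ∈ (D.R : Subgroup G)) (h : IsConj y y') : y' ∈ L := by
  obtain ⟨g, rfl⟩ := isConj_iff.1 h
  haveI := D.isMulCommutative_R
  haveI : Fact (Nat.Prime 3) := ⟨Nat.prime_three⟩
  obtain ⟨n, hn, e⟩ := D.R.conj_eq_normalizer_conj_of_mem y g⁻¹ (hL.le hy) (by rwa [inv_inv])
  rw [inv_inv] at e
  rw [e]
  have := hL.inv n⁻¹ (inv_mem hn) y hy
  rwa [inv_inv] at this

theorem exists_character {L : Subgroup G} (hL : D.Line L) :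
    ∃ ψ : (D.R : Subgroup G) →* ℂˣ, ∀ y : (D.R : Subgroup G), ψ y = 1 ↔ (y : G) ∈ L := by
  haveI := D.isMulCommutative_R
  letI : CommGroup (D.R : Subgroup G) :=
    { (inferInstance : Group (D.R : Subgroup G)) with
      mul_comm := fun a b => D.isMulCommutative_R.is_comm.comm a b }
  set L' := L.subgroupOf (D.R : Subgroup G)
  have hidx : Nat.card ((D.R : Subgroup G) ⧸ L') = 3 := by
    have h := Subgroup.card_eq_card_quotient_mul_card_subgroup L'
    rw [D.card_R, Nat.card_congr (Subgroup.subgroupOfEquivOfLe hL.le).toEquiv, hL.card] at h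
    omega
  obtain ⟨c, hc⟩ : ∃ c : (D.R : Subgroup G) ⧸ L', c ≠ 1 :=
    haveI : Nontrivial ((D.R : Subgroup G) ⧸ L') := Finite.one_lt_card_iff_nontrivial.1 (by omega)
    exists_ne 1
  obtain ⟨f, hf⟩ := CommGroup.exists_apply_ne_one_of_hasEnoughRootsOfUnity _ ℂ hc
  haveI : Fact (Nat.Prime 3) := ⟨Nat.prime_three⟩
  refine ⟨f.comp (QuotientGroup.mk' L'), fun y => ⟨fun h => ?_, fun h => ?_⟩⟩
  · by_contra hy
    have h1 : (QuotientGroup.mk y : (D.R : Subgroup G) ⧸ L') ≠ 1 := fun e =>
      hy (Subgroup.mem_subgroupOf.1 ((QuotientGroup.eq_one_iff y).1 e))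
    obtain ⟨i, rfl⟩ := (mem_zpowers_of_prime_card hidx h1 : c ∈ Subgroup.zpowers _)
    refine hf ?_
    show f ((QuotientGroup.mk y : (D.R : Subgroup G) ⧸ L') ^ i) = 1
    rw [map_zpow, show f (QuotientGroup.mk y) = 1 from h, one_zpow]
  · show f (QuotientGroup.mk y) = 1
    rw [(QuotientGroup.eq_one_iff y).2 (Subgroup.mem_subgroupOf.2 h), map_one]

theorem isGeneralizedCharacter_theta {L : Subgroup G} (hL : D.Line L) :
    IsGeneralizedCharacter G (D.theta L) := by
  refine CfsgLib.BrauerInd.isGeneralizedCharacter_of_elementary (D.isClassFunction_theta L)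
    fun p E hp hE => ?_
  haveI : Fact (Nat.Prime 3) := ⟨Nat.prime_three⟩
  obtain ⟨U, hUn, hU⟩ := CfsgLib.ElemSection.exists_coprime_subgroup hp hE 9
  obtain ⟨V, -, hV⟩ := CfsgLib.ElemSection.exists_coprime_subgroup hp hE D.m
  have hidx : U.index ∣ 9 :=
    CfsgLib.ElemSection.index_dvd_of_coprimes D.card_eq_m D.coprime_nine.symm U hU
  have hord : ∀ x : E, orderOf (x : G) = orderOf x :=
    fun x => orderOf_injective E.subtype E.subtype_injective x
  have hV9 : ∀ x : E, x ∈ V ↔ x ^ 9 = 1 := by
    intro x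
    rw [hV, ← orderOf_dvd_iff_pow_eq_one]
    refine ⟨fun h => ?_, fun h => Nat.Coprime.coprime_dvd_left h D.coprime_nine⟩
    have hd := orderOf_dvd_natCard (x : G)
    rw [hord x, D.card_eq_m] at hd
    exact h.dvd_of_dvd_mul_left hd
  -- the projection is a homomorphism
  let pr : E →* V :=
    { toFun := fun x => ⟨x ^ D.N, (hV9 _).2 (Subtype.ext (by simpa using D.pow_N_nine (x : G)))⟩
      map_one' := Subtype.ext (one_pow _)
      map_mul' := fun x y => Subtype.ext (by
        show (x * y) ^ D.N = x ^ D.N * y ^ D.N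
        haveI := hUn
        have hmk : ∀ z : E, ((QuotientGroup.mk z : E ⧸ U)) ^ D.N = QuotientGroup.mk z := by
          intro z
          have h9 : (QuotientGroup.mk z : E ⧸ U) ^ 9 = 1 := by
            obtain ⟨c, hc⟩ := hidx
            rw [hc, pow_mul, Subgroup.index_eq_card, pow_card_eq_one', one_pow]
          have h := Nat.div_add_mod D.N 9
          rw [D.N_nine] at h
          rw [← h, pow_add, pow_mul, h9, one_pow, one_mul, pow_one]
        have hmem : ∀ z : E, z ^ D.N ∈ V := fun z =>
          (hV9 _).2 (Subtype.ext (by simpa using D.pow_N_nine (z : G)))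
        set w := ((x * y) ^ D.N)⁻¹ * (x ^ D.N * y ^ D.N) with hw
        have hwV : w ∈ V := mul_mem (inv_mem (hmem _)) (mul_mem (hmem x) (hmem y))
        have hwU : w ∈ U := by
          rw [← QuotientGroup.eq_one_iff, hw, QuotientGroup.mk_mul, QuotientGroup.mk_inv,
            QuotientGroup.mk_mul, QuotientGroup.mk_pow, QuotientGroup.mk_pow, QuotientGroup.mk_pow,
            hmk, hmk, hmk, ← QuotientGroup.mk_mul, inv_mul_cancel]
        have hw1 : w = 1 := by
          refine orderOf_eq_one_iff.1 ?_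
          exact Nat.Coprime.eq_one_of_dvd ((hU w).1 hwU) (orderOf_dvd_of_pow_eq_one ((hV9 w).1 hwV))
        rwa [hw, inv_mul_eq_one] at hw1) }
  -- a conjugate of `V` in the Sylow subgroup
  obtain ⟨g, hg⟩ : ∃ g : G, ∀ v : V, g * ((v : E) : G) * g⁻¹ ∈ (D.R : Subgroup G) := by
    have hW : IsPGroup 3 ↥(V.map E.subtype) := by
      intro w
      obtain ⟨v, hv, hve⟩ := Subgroup.mem_map.1 w.2
      refine ⟨2, Subtype.ext ?_⟩
      show (w : G) ^ 3 ^ 2 = 1
      rw [← hve, ← map_pow, show 3 ^ 2 = 9 from rfl, (hV9 v).1 hv, map_one]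
    obtain ⟨Q, hQ⟩ := hW.exists_le_sylow
    obtain ⟨g, hg⟩ := MulAction.exists_smul_eq G Q D.R
    refine ⟨g, fun v => ?_⟩
    rw [← hg, Sylow.coe_subgroup_smul]
    exact ⟨_, hQ (Subgroup.mem_map.2 ⟨v, v.2, rfl⟩), by simp⟩
  obtain ⟨ψ, hψ⟩ := D.exists_character hL
  let ι : V →* (D.R : Subgroup G) :=
    { toFun := fun v => ⟨g * ((v : E) : G) * g⁻¹, hg v⟩
      map_one' := Subtype.ext (by simp)
      map_mul' := fun a b => Subtype.ext (by simp) }
  let h : E →* ℂˣ := ψ.comp (ι.comp pr)
  have hlin : ∀ f : E →* ℂˣ, IsGeneralizedCharacter E (fun x => (f x : ℂ)) := fun f =>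
    isGeneralizedCharacter_of_isCharacter (isCharacter_of_irr (isIrrCharacter_of_hom f))
  have key : (fun x : E => D.theta L x) =
      (2 : ℂ) • (1 : E → ℂ) - (fun x => (h x : ℂ)) - fun x => ((h * h) x : ℂ) := by
    funext x
    have hconj : IsConj ((x : G) ^ D.N) (ι (pr x) : G) := isConj_iff.2 ⟨g, rfl⟩
    simp only [Pi.sub_apply, Pi.smul_apply, Pi.one_apply, smul_eq_mul, mul_one,
      MonoidHom.mul_apply, Units.val_mul]
    by_cases hx : h x = 1
    · have hnot : (x : G) ∉ D.supp L := by
        intro hs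
        obtain ⟨y, hy, hyL, hc⟩ := D.mem_supp.1 hs
        exact hyL (D.mem_line_of_conj hL ((hψ _).1 hx) hy (hc.trans hconj).symm)
      rw [theta, if_neg hnot, hx]
      norm_num
    · have hs : (x : G) ∈ D.supp L :=
        D.mem_supp.2 ⟨_, (ι (pr x)).2, fun hl => hx ((hψ _).2 hl), hconj.symm⟩
      rw [theta, if_pos hs]
      have h3 : (h x : ℂ) ^ 3 = 1 := by
        have h9 : ψ (ι (pr x) ^ 3) = 1 := (hψ _).2 (by
          have hidx : (L.subgroupOf (D.R : Subgroup G)).index = 3 := by
            have e := (L.subgroupOf (D.R : Subgroup G)).card_mul_index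
            rw [D.card_R, Nat.card_congr (Subgroup.subgroupOfEquivOfLe hL.le).toEquiv, hL.card] at e
            omega
          haveI : (L.subgroupOf (D.R : Subgroup G)).Normal := ⟨fun a ha b => by
            rwa [D.isMulCommutative_R.is_comm.comm b a, mul_inv_cancel_right]⟩
          have hp := Subgroup.pow_index_mem (L.subgroupOf (D.R : Subgroup G)) (ι (pr x))
          rw [hidx] at hp
          exact Subgroup.mem_subgroupOf.1 hp)
        rw [map_pow] at h9
        show (ψ (ι (pr x)) : ℂ) ^ 3 = 1
        simpa using congrArg Units.val h9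
      have hne : (h x : ℂ) - 1 ≠ 0 := sub_ne_zero.2 fun e => hx (Units.ext e)
      refine mul_left_cancel₀ hne ?_
      linear_combination h3
  rw [key]
  exact isGeneralizedCharacter_sub (isGeneralizedCharacter_sub
    (by exact_mod_cast isGeneralizedCharacter_natCast_smul isGeneralizedCharacter_one 2) (hlin h))
    (hlin (h * h))

/-- The section sizes bound the support: it is one third of the group. -/
theorem three_mul_card_supp {L L' : Subgroup G} (hL : D.Line L) (hL' : Nat.card L' ≤ 3)
    (hgood : ∀ y ∈ (D.R : Subgroup G), y ∉ L → y ∉ L' → D.Good y)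
    (hinv : ∀ y ∈ (D.R : Subgroup G), IsConj y y⁻¹) :
    3 * (D.supp L).card = Nat.card G := by
  obtain ⟨z, hz⟩ := classInner_generalized_int (D.isGeneralizedCharacter_theta hL)
    (isGeneralizedCharacter_irr (principalIrr G))
  have hz' : ((3 * (D.supp L).card : ℕ) : ℤ) = (Nat.card G : ℤ) * z := by
    have h : classInner (D.theta L) (principalIrr G : G → ℂ) =
        (Nat.card G : ℂ)⁻¹ * (3 * (D.supp L).card) := by
      rw [classInner]
      congr 1
      simp only [principalIrr_apply, map_one, mul_one, theta]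
      rw [Finset.sum_ite_mem, Finset.univ_inter, Finset.sum_const, nsmul_eq_mul, mul_comm]
    rw [hz, inv_mul_eq_div, eq_div_iff (Nat.cast_ne_zero.2 Nat.card_pos.ne')] at h
    have h' : (((3 * (D.supp L).card : ℕ) : ℤ) : ℂ) = (((Nat.card G : ℤ) * z : ℤ) : ℂ) := by
      push_cast
      linear_combination -h
    exact_mod_cast h'
  -- the support is not empty
  have hpos : 0 < (D.supp L).card := by
    obtain ⟨y, hy, hyL⟩ : ∃ y ∈ (D.R : Subgroup G), y ∉ L := by
      by_contra hall
      push Not at hall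
      have := Subgroup.card_le_of_le hall
      rw [D.card_R, hL.card] at this
      omega
    exact Finset.card_pos.2 ⟨y, D.mem_supp.2 ⟨y, hy, hyL, by rw [D.pow_N_of_nine (D.nine_of_mem hy)]⟩⟩
  -- double counting
  let W : Finset G := Finset.univ.filter fun y => y ∈ (D.R : Subgroup G) ∧ y ∉ L
  have hWmem : ∀ y, y ∈ W ↔ y ∈ (D.R : Subgroup G) ∧ y ∉ L := fun y => by simp [W]
  have h2 : 2 * (D.supp L).card ≤ ∑ y ∈ W, (D.sec y).card := by
    calc 2 * (D.supp L).card = ∑ x ∈ D.supp L, 2 := by rw [Finset.sum_const, smul_eq_mul, mul_comm]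
      _ ≤ ∑ x ∈ D.supp L, (W.filter fun y => IsConj y (x ^ D.N)).card := by
        refine Finset.sum_le_sum fun x hx => ?_
        obtain ⟨y, hy, hyL, hc⟩ := D.mem_supp.1 hx
        have hy2 : y ≠ y⁻¹ := by
          intro e
          have e2 : y ^ 2 = 1 := by rw [pow_two]; exact mul_eq_one_iff_eq_inv.2 e
          have h9 := D.nine_of_mem hy
          rw [show 9 = 2 * 4 + 1 from rfl, pow_succ, pow_mul, e2, one_pow, one_mul] at h9
          exact hyL (h9 ▸ one_mem L)
        refine le_trans (le_of_eq (Finset.card_pair hy2).symm) (Finset.card_le_card ?_)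
        intro w hw
        simp only [Finset.mem_insert, Finset.mem_singleton] at hw
        rw [Finset.mem_filter, hWmem]
        rcases hw with rfl | rfl
        · exact ⟨⟨hy, hyL⟩, hc⟩
        · exact ⟨⟨inv_mem hy, fun h => hyL (inv_mem_iff.1 h)⟩, (hinv y hy).symm.trans hc⟩
      _ ≤ ∑ x : G, (W.filter fun y => IsConj y (x ^ D.N)).card :=
        Finset.sum_le_sum_of_subset (Finset.subset_univ _)
      _ = ∑ y ∈ W, (D.sec y).card := by
        simp only [Finset.card_filter, sec]
        exact Finset.sum_comm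
  have h3 : 9 * ∑ y ∈ W, (D.sec y).card ≤
      ∑ y ∈ W, Nat.card G * (1 + if y ∈ L' then 2 else 0) := by
    rw [Finset.mul_sum]
    refine Finset.sum_le_sum fun y hy => ?_
    obtain ⟨hy, hyL⟩ := (hWmem y).1 hy
    by_cases hy' : y ∈ L'
    · rw [if_pos hy']
      have := D.three_mul_card_sec_le (D.nine_of_mem hy) fun e => hyL (e ▸ one_mem L)
      omega
    · rw [if_neg hy', D.nine_mul_card_sec (hgood y hy hyL hy'), add_zero, mul_one]
  rw [← Finset.mul_sum, Finset.sum_add_distrib, Finset.sum_const, ← Finset.sum_filter,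
    Finset.sum_const, smul_eq_mul, smul_eq_mul, mul_one] at h3
  have hW : W.card = 6 := by
    have e : W = (Finset.univ.filter (· ∈ (D.R : Subgroup G))) \ (Finset.univ.filter (· ∈ L)) := by
      ext y; simp [W]
    rw [e, Finset.card_sdiff_of_subset (fun y hy => by simpa using hL.le (by simpa using hy)),
      ← Fintype.card_subtype, ← Fintype.card_subtype, ← Nat.card_eq_fintype_card,
      ← Nat.card_eq_fintype_card]
    show Nat.card (D.R : Subgroup G) - Nat.card L = 6
    rw [D.card_R, hL.card]
  have hW' : (W.filter (· ∈ L')).card ≤ 2 := by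
    have h1 : (W.filter (· ∈ L')).card ≤ ((Finset.univ.filter (· ∈ L')).erase 1).card := by
      refine Finset.card_le_card fun y hy => ?_
      obtain ⟨hyW, hy'⟩ := Finset.mem_filter.1 hy
      exact Finset.mem_erase.2 ⟨fun e => ((hWmem y).1 hyW).2 (e ▸ one_mem L),
        Finset.mem_filter.2 ⟨Finset.mem_univ _, hy'⟩⟩
    rw [Finset.card_erase_of_mem (by simp), ← Fintype.card_subtype,
      ← Nat.card_eq_fintype_card] at h1
    have : Nat.card {x : G // x ∈ L'} ≤ 3 := hL'
    omega
  have h4 : 18 * (D.supp L).card ≤ Nat.card G * 10 := by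
    calc 18 * (D.supp L).card = 9 * (2 * (D.supp L).card) := by ring
      _ ≤ 9 * ∑ y ∈ W, (D.sec y).card := Nat.mul_le_mul_left _ h2
      _ ≤ _ := h3
      _ ≤ Nat.card G * 10 := Nat.mul_le_mul_left _ (by omega)
  -- the multiplicity is one
  have hG0 : 0 < Nat.card G := Nat.card_pos
  have hz1 : z = 1 := by
    have e1 : 0 < z := by
      by_contra hneg
      push Not at hneg
      have : (0 : ℤ) < (Nat.card G : ℤ) * z := hz' ▸ by exact_mod_cast Nat.mul_pos (by norm_num : 0 < 3) hpos
      nlinarith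
    have e2 : z < 2 := by
      by_contra hge
      push Not at hge
      have : (18 : ℤ) * (D.supp L).card ≤ (Nat.card G : ℤ) * 10 := by exact_mod_cast h4
      push_cast at hz'
      nlinarith
    omega
  rw [hz1, mul_one] at hz'
  exact_mod_cast hz'

/-- The decomposition of the virtual character. -/
structure Triple (L : Subgroup G) where
  A : IrrCharacter G
  B : IrrCharacter G
  a : ℤ
  b : ℤ
  A_ne : A ≠ principalIrr G
  B_ne : B ≠ principalIrr G
  A_ne_B : A ≠ B
  a_sign : a = 1 ∨ a = -1
  b_sign : b = 1 ∨ b = -1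
  coef : ∀ χ : IrrCharacter G, classInner (D.theta L) (χ : G → ℂ) =
    (if χ = principalIrr G then 1 else 0) + (if χ = A then (a : ℂ) else 0) +
      (if χ = B then (b : ℂ) else 0)

variable {D}

/-- The same triple with the two characters exchanged. -/
def Triple.swap {L : Subgroup G} (T : D.Triple L) : D.Triple L where
  A := T.B
  B := T.A
  a := T.b
  b := T.a
  A_ne := T.B_ne
  B_ne := T.A_ne
  A_ne_B := T.A_ne_B.symm
  a_sign := T.b_sign
  b_sign := T.a_sign
  coef := fun χ => by rw [T.coef]; ring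

theorem Triple.eq {L : Subgroup G} (T : D.Triple L) (x : G) :
    D.theta L x = 1 + (T.a : ℂ) * (T.A : G → ℂ) x + (T.b : ℂ) * (T.B : G → ℂ) x := by
  conv_lhs => rw [classFunction_eq_sum (D.isClassFunction_theta L)]
  simp only [Finset.sum_apply, Pi.smul_apply, smul_eq_mul, T.coef, add_mul, ite_mul, zero_mul,
    Finset.sum_add_distrib, Finset.sum_ite_eq', Finset.mem_univ, if_true, principalIrr_apply, mul_one]

theorem Triple.degree_eq_zero {L : Subgroup G} (T : D.Triple L) {dA dB : ℕ}
    (hA : (T.A : G → ℂ) 1 = dA) (hB : (T.B : G → ℂ) 1 = dB) :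
    1 + T.a * (dA : ℤ) + T.b * (dB : ℤ) = 0 := by
  have h := T.eq 1
  have h1 : (1 : G) ∉ D.supp L := by
    intro h
    obtain ⟨y, -, hyL, hc⟩ := D.mem_supp.1 h
    rw [one_pow] at hc
    exact hyL (isConj_one_left.1 hc ▸ one_mem L)
  rw [theta, if_neg h1, hA, hB] at h
  exact_mod_cast h.symm

variable (D)

theorem exists_triple {L : Subgroup G} (hL : D.Line L)
    (hsupp : 3 * (D.supp L).card = Nat.card G) : Nonempty (D.Triple L) := by
  have hgen := D.isGeneralizedCharacter_theta hL
  choose c hc using fun χ : IrrCharacter G =>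
    classInner_generalized_int hgen (isGeneralizedCharacter_irr χ)
  have hnorm : classInner (D.theta L) (D.theta L) = 3 := by
    rw [classInner, Finset.sum_congr rfl (g := fun x => if x ∈ D.supp L then (9 : ℂ) else 0)
      (fun x _ => by
        simp only [theta]
        split_ifs <;> simp [map_ofNat]
        norm_num), Finset.sum_ite_mem, Finset.univ_inter, Finset.sum_const, nsmul_eq_mul,
      ← hsupp]
    have : ((D.supp L).card : ℂ) ≠ 0 := by
      have : 0 < Nat.card G := Nat.card_pos
      exact Nat.cast_ne_zero.2 (by omega)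
    push_cast
    field_simp
    norm_num
  have hone : c (principalIrr G) = 1 := by
    have h : classInner (D.theta L) (principalIrr G : G → ℂ) = 1 := by
      rw [classInner]
      simp only [principalIrr_apply, map_one, mul_one, theta]
      rw [Finset.sum_ite_mem, Finset.univ_inter, Finset.sum_const, nsmul_eq_mul, ← hsupp]
      have : ((D.supp L).card : ℂ) ≠ 0 := by
        have : 0 < Nat.card G := Nat.card_pos
        exact Nat.cast_ne_zero.2 (by omega)
      push_cast
      field_simp
    rw [hc] at h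
    exact_mod_cast h
  have hsum : ∑ χ, c χ ^ 2 = 3 := by
    rw [classInner_self_eq_sum_sq (D.isClassFunction_theta L) hc] at hnorm
    exact_mod_cast hnorm
  set S := Finset.univ.erase (principalIrr G)
  have hS : ∑ χ ∈ S, c χ ^ 2 = 2 := by
    rw [← Finset.add_sum_erase _ _ (Finset.mem_univ (principalIrr G)), hone] at hsum
    linarith
  have hsmall : ∀ χ ∈ S, c χ = 0 ∨ c χ = 1 ∨ c χ = -1 := by
    intro χ hχ
    have h := Finset.single_le_sum (fun ψ _ => sq_nonneg (c ψ)) hχ
    rw [hS] at h
    have h1 : c χ < 2 := by nlinarith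
    have h2 : -2 < c χ := by nlinarith
    omega
  have hcard : (S.filter fun χ => c χ ≠ 0).card = 2 := by
    have : ∑ χ ∈ S, c χ ^ 2 = ((S.filter fun χ => c χ ≠ 0).card : ℤ) := by
      rw [Finset.card_filter]
      push_cast
      refine Finset.sum_congr rfl fun χ hχ => ?_
      rcases hsmall χ hχ with h | h | h <;> simp [h]
    rw [hS] at this
    omega
  obtain ⟨A, B, hAB, he⟩ := Finset.card_eq_two.1 hcard
  have hmem : ∀ χ, (χ ≠ principalIrr G ∧ c χ ≠ 0) ↔ (χ = A ∨ χ = B) := fun χ => by
    simpa [S] using Finset.ext_iff.1 he χ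
  obtain ⟨hA1, hA0⟩ := (hmem A).2 (Or.inl rfl)
  obtain ⟨hB1, hB0⟩ := (hmem B).2 (Or.inr rfl)
  refine ⟨⟨A, B, c A, c B, hA1, hB1, hAB, (hsmall A (by simp [S, hA1])).resolve_left hA0,
    (hsmall B (by simp [S, hB1])).resolve_left hB0, fun χ => ?_⟩⟩
  rw [hc]
  by_cases h1 : χ = principalIrr G
  · subst h1; simp [hone, Ne.symm hA1, Ne.symm hB1]
  by_cases hA : χ = A
  · subst hA; simp [h1, hAB]
  by_cases hB : χ = B
  · subst hB; simp [h1, hA]
  have : c χ = 0 := by
    by_contra h
    rcases (hmem χ).1 ⟨h1, h⟩ with h' | h'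
    · exact hA h'
    · exact hB h'
  simp [h1, hA, hB, this]

end Ctx

end CfsgLib.NineTwoPrimes
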