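import Cfsg.Agent.Lib.Characters.Galois
import Cfsg.Agent.Lib.Characters.Burnside
import Cfsg.Agent.Lib.Characters.LinearExt
import Cfsg.Agent.Lib.Small.Basic
import Cfsg.Agent.Lib.Recog45.HalfTransitive.Imprimitive

/-!
# Integral character values and congruences
-/

set_option autoImplicit false
set_option linter.style.haveILetI false

noncomputable section

namespace CfsgLib.NineTwoPrimes

open Cfsg CfsgLib.Characters
open scoped ComplexConjugate

universe u

variable {G : Type u} [Group G] [Finite G]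

/-- A character value fixed by all automorphisms of `ℂ` is an integer. -/
theorem exists_int_of_fixed {χ : G → ℂ} (hχ : IsCharacter G χ) (g : G)
    (h : ∀ σ : ℂ ≃+* ℂ, σ (χ g) = χ g) : ∃ z : ℤ, χ g = z := by
  have : NeZero (Nat.card G) := ⟨Nat.card_pos.ne'⟩
  obtain ⟨q, hq⟩ := CfsgLib.CharGalois.exists_rat_char hχ g fun m hm => by
    obtain ⟨σ, hσ⟩ := CfsgLib.CharGalois.exists_autComplex (Nat.card G) hm
    rw [← CfsgLib.CharGalois.map_char_eq_pow hχ σ hσ, h σ]
  obtain ⟨z, hz⟩ := exists_int_of_isIntegral_rat (hq ▸ isIntegral_of_isCharacter hχ g)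
  exact ⟨z, by rw [hq, ← hz, Rat.cast_intCast]⟩

/-- A divisor statement for integers read through algebraic integers. -/
theorem dvd_of_eq_mul_integral {m a : ℤ} {x : ℂ} (hx : IsIntegral ℤ x) (h : (a : ℂ) = m * x)
    (hm : m ≠ 0) : m ∣ a := by
  have hm' : (m : ℂ) ≠ 0 := Int.cast_ne_zero.2 hm
  have hq : x = (((a : ℚ) / m : ℚ) : ℂ) := by
    push_cast
    rw [h, mul_div_cancel_left₀ _ hm']
  obtain ⟨z, hz⟩ := exists_int_of_isIntegral_rat (hq ▸ hx)
  refine ⟨z, ?_⟩
  have : (a : ℂ) = ((m * z : ℤ) : ℂ) := by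
    rw [h, hq, ← hz]
    push_cast
    rfl
  exact_mod_cast this

/-- A prime power of a sum is the sum of the prime powers up to a multiple of the prime. -/
theorem exists_sum_pow_prime_pow {p : ℕ} (hp : p.Prime) (k : ℕ) {ι : Type*} (s : Finset ι)
    (z : ι → ℂ) (hz : ∀ i ∈ s, IsIntegral ℤ (z i)) :
    ∃ x : ℂ, IsIntegral ℤ x ∧
      (∑ i ∈ s, z i) ^ p ^ k = ∑ i ∈ s, z i ^ p ^ k + p * x := by
  classical
  induction s using Finset.induction_on with
  | empty => exact ⟨0, isIntegral_zero, by simp [hp.ne_zero]⟩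
  | insert a s ha ih =>
    obtain ⟨x, hx, he⟩ := ih fun i hi => hz i (Finset.mem_insert_of_mem hi)
    let A := integralClosure ℤ ℂ
    let u : A := ⟨z a, hz a (Finset.mem_insert_self a s)⟩
    let v : A := ⟨∑ i ∈ s, z i, IsIntegral.sum _ fun i hi => hz i (Finset.mem_insert_of_mem hi)⟩
    obtain ⟨r, hr⟩ := exists_add_pow_prime_pow_eq hp u v k
    have hr' := congrArg (Subtype.val : A → ℂ) hr
    push_cast at hr'
    refine ⟨x + z a * (∑ i ∈ s, z i) * r, hx.add (((hz a (Finset.mem_insert_self a s)).mul v.2).mul r.2), ?_⟩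
    rw [Finset.sum_insert ha, Finset.sum_insert ha, hr', he]
    ring

/-- An integral value at a `p`-element is congruent to the degree modulo `p`. -/
theorem int_congr {χ : G → ℂ} (hχ : IsCharacter G χ) {p k : ℕ} (hp : p.Prime) {g : G}
    (hg : g ^ p ^ k = 1) {n d : ℤ} (hn : χ g = n) (hd : χ 1 = d) : (p : ℤ) ∣ n - d := by
  haveI : Fact p.Prime := ⟨hp⟩
  obtain ⟨N, z, hz, hdec⟩ := CfsgLib.CharGalois.exists_root_decomp hχ g
  have hzi : ∀ i, IsIntegral ℤ (z i) := fun i =>
    IsIntegral.of_pow Nat.card_pos (by rw [hz i]; exact isIntegral_one)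
  obtain ⟨x, hx, he⟩ := exists_sum_pow_prime_pow hp k Finset.univ z fun i _ => hzi i
  have h1 := hdec 1
  simp only [pow_one] at h1
  rw [← h1, ← hdec (p ^ k), hg, hn, hd] at he
  have h2 : (p : ℤ) ∣ n ^ p ^ k - d := dvd_of_eq_mul_integral hx
    (by push_cast; linear_combination he) (by exact_mod_cast hp.ne_zero)
  rw [← ZMod.intCast_zmod_eq_zero_iff_dvd, Int.cast_sub, Int.cast_pow, ZMod.pow_card_pow] at h2
  rw [← ZMod.intCast_zmod_eq_zero_iff_dvd, Int.cast_sub]
  exact h2

section Simple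

variable [IsSimpleGroup G] (hG : ¬ IsMulCommutative G)

include hG in
/-- The values of a non-principal character off the identity are smaller than the degree. -/
theorem norm_lt {χ : IrrCharacter G} (hne : χ ≠ principalIrr G) {g : G} (hg : g ≠ 1) {d : ℕ}
    (hd : (χ : G → ℂ) 1 = d) : ‖(χ : G → ℂ) g‖ < d := by
  obtain ⟨_, n, ρ, hρ, rfl⟩ := χ
  haveI := hρ
  have hdn : d = Module.finrank ℂ (Fin n → ℂ) := by
    change ρ.character 1 = _ at hd
    rw [Representation.char_one] at hd; exact_mod_cast hd.symm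
  refine lt_of_le_of_ne (hdn ▸ norm_char_le ρ g) fun h => ?_
  rw [hdn] at h
  obtain ⟨c, hc⟩ := (norm_char_eq_iff_scalar ρ g).mp h
  rcases (MonoidHom.normal_ker (ρ : G →* _)).eq_bot_or_eq_top with hk | hk
  · refine hg ?_
    have hmem : g ∈ Subgroup.center G := Subgroup.mem_center_iff.mpr fun x => by
      refine (MonoidHom.ker_eq_bot_iff _).mp hk ?_
      rw [map_mul, map_mul, hc]
      ext v
      simp
    rw [CfsgLib.Small.center_eq_bot_of_nc hG] at hmem
    exact Subgroup.mem_bot.1 hmem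
  · refine hne (CfsgLib.Burnside.eq_one_of_irr_const (c := (n : ℂ)) fun x => ?_)
    change ρ.character x = n
    have : ρ x = 1 := MonoidHom.mem_ker.mp (hk ▸ Subgroup.mem_top x)
    simp [Representation.character, this]

include hG in
theorem abs_lt {χ : IrrCharacter G} (hne : χ ≠ principalIrr G) {g : G} (hg : g ≠ 1) {d : ℕ}
    {v : ℤ} (hd : (χ : G → ℂ) 1 = d) (hv : (χ : G → ℂ) g = v) :
    -(d : ℤ) < v ∧ v < d := by
  have h := norm_lt hG hne hg hd
  rw [hv, Complex.norm_intCast] at h
  exact _root_.abs_lt.1 (by exact_mod_cast h)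

include hG in
/-- Burnside: a character vanishes on a class of size prime to its degree. -/
theorem eq_zero_of_coprime {χ : IrrCharacter G} (hne : χ ≠ principalIrr G) {g : G} (hg : g ≠ 1)
    {d : ℕ} (hd : (χ : G → ℂ) 1 = d)
    (hcop : d.Coprime (Subgroup.centralizer ({g} : Set G)).index) : (χ : G → ℂ) g = 0 := by
  have hlt := norm_lt hG hne hg hd
  obtain ⟨_, n, ρ, hρ, rfl⟩ := χ
  haveI := hρ
  have hdn : d = Module.finrank ℂ (Fin n → ℂ) := by
    change ρ.character 1 = _ at hd
    rw [Representation.char_one] at hd; exact_mod_cast hd.symm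
  rcases CfsgLib.Burnside.eq_zero_or_norm_eq_of_coprime ρ g
    (by rw [card_isConj_eq_index, ← hdn]; exact hcop) with h | h
  · exact h
  · exact absurd h (hdn ▸ hlt).ne

include hG in
/-- Only the principal character has degree one. -/
theorem one_lt_degree {χ : IrrCharacter G} (hne : χ ≠ principalIrr G) {d : ℕ}
    (hd : (χ : G → ℂ) 1 = d) : 1 < d := by
  obtain ⟨g, hg⟩ : ∃ g : G, g ≠ 1 := exists_ne 1
  have h1 : (0 : ℝ) < d := (norm_nonneg _).trans_lt (norm_lt hG hne hg hd)
  rcases Nat.lt_or_ge 1 d with h | h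
  · exact h
  exfalso
  have hd1 : d = 1 := by
    have : 0 < d := by exact_mod_cast h1
    omega
  obtain ⟨f, hf⟩ := CfsgLib.LinearExt.exists_unitsHom (irr_isCharacter χ) (by rw [hd, hd1, Nat.cast_one])
  refine hne (Subtype.ext ?_)
  rw [hf]
  funext x
  show ((f x : ℂˣ) : ℂ) = 1
  rw [CfsgLib.Small.hom_comm_eq_one hG f x, Units.val_one]

end Simple

/-- A prime power next to a power of two is a prime, unless it is nine. -/
theorem pow_prime_next_two_pow {q i j : ℕ} (hq : q.Prime) (hq5 : 5 ≤ q) (hi : 1 ≤ i)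
    (h : q ^ i = 2 ^ j + 1 ∨ q ^ i + 1 = 2 ^ j) : i = 1 := by
  rcases h with h | h
  · rcases CfsgLib.Recog45.HalfTransitive.pow_eq_two_pow_add_one hq hi h with h' | ⟨h', -⟩
    · exact h'
    · omega
  · have hqodd : Odd q := hq.odd_of_ne_two (by omega)
    have hj : 2 ≤ j := by
      rcases Nat.lt_or_ge j 2 with hj | hj
      · have : q ≤ q ^ i := Nat.le_self_pow (by omega) q
        interval_cases j <;> omega
      · exact hj
    rcases Nat.even_or_odd i with ⟨k, rfl⟩ | hodd
    · exfalso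
      obtain ⟨m, hm⟩ := hqodd.pow (n := k)
      have h4 : 4 ∣ 2 ^ j := (pow_dvd_pow 2 hj : 2 ^ 2 ∣ 2 ^ j)
      have e : q ^ (k + k) + 1 = 4 * (m * m + m) + 2 := by rw [pow_add, hm]; ring
      omega
    · by_contra hne
      have hi3 : 3 ≤ i := by obtain ⟨k, rfl⟩ := hodd; omega
      -- the alternating sum is odd
      have hdvd : ((q : ℤ) + 1) * (∑ l ∈ Finset.range i, (-(q : ℤ)) ^ l) = 2 ^ j := by
        have hg := mul_geom_sum (-(q : ℤ)) i
        rw [hodd.neg_pow] at hg
        have h' : (q : ℤ) ^ i + 1 = 2 ^ j := by exact_mod_cast h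
        linear_combination -hg + h'
      set S := ∑ l ∈ Finset.range i, (-(q : ℤ)) ^ l
      have hS : Odd S := by
        show Odd (∑ l ∈ Finset.range i, (-(q : ℤ)) ^ l)
        rw [← Int.not_even_iff_odd, even_iff_two_dvd, show (2 : ℤ) = ((2 : ℕ) : ℤ) from rfl,
          ← ZMod.intCast_zmod_eq_zero_iff_dvd]
        have hq1 : (q : ZMod 2) = 1 := by
          obtain ⟨m, rfl⟩ := hqodd
          push_cast
          rw [show (2 : ZMod 2) = 0 from rfl, zero_mul, zero_add]
        obtain ⟨m, hm⟩ := hodd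
        push_cast
        rw [hq1, show (-1 : ZMod 2) = 1 from rfl]
        simp only [one_pow, Finset.sum_const, Finset.card_range, nsmul_one, hm]
        push_cast
        rw [show (2 : ZMod 2) = 0 from rfl, zero_mul, zero_add]
        decide
      have hq1 : q + 1 ∣ 2 ^ j := by
        have : ((q + 1 : ℕ) : ℤ) ∣ ((2 ^ j : ℕ) : ℤ) := ⟨S, by push_cast; exact hdvd.symm⟩
        exact_mod_cast this
      have hS1 : S = 1 := by
        have hpos : 0 < S := by
          by_contra hneg
          push Not at hneg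
          nlinarith [pow_pos (two_pos : (0 : ℤ) < 2) j]
        have hdvd2 : S.natAbs ∣ 2 ^ j := by
          have := congrArg Int.natAbs hdvd
          rw [Int.natAbs_mul, Int.natAbs_pow] at this
          exact ⟨((q : ℤ) + 1).natAbs, by rw [mul_comm] at this; simpa using this.symm⟩
        obtain ⟨l, -, hl⟩ := (Nat.dvd_prime_pow Nat.prime_two).1 hdvd2
        have hodd' : Odd S.natAbs := Int.natAbs_odd.2 hS
        rcases Nat.eq_zero_or_pos l with rfl | hl0
        · omega
        · rw [hl] at hodd'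
          exact absurd hodd' (Nat.not_odd_iff_even.2 (even_two.pow_of_ne_zero hl0.ne'))
      rw [hS1, mul_one] at hdvd
      have he : q + 1 = 2 ^ j := by exact_mod_cast hdvd
      have : q ^ 1 < q ^ i := Nat.pow_lt_pow_right (by omega) (by omega)
      rw [pow_one] at this
      omega

end CfsgLib.NineTwoPrimes
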